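import Groth.Agent.Lib.LocProp.EtaleCoord
import Mathlib

/-!
# Differentials and transcendence degree of finitely generated field extensions
-/

universe u

namespace GrothLib.UnrMono

open scoped IntermediateField.algebraAdjoinAdjoin
open MvPolynomial

/-- Formally smooth algebras essentially of finite type over Noetherian rings are flat. -/
theorem flat_of_formallySmooth_essFiniteType (R A : Type u) [CommRing R] [CommRing A] [Algebra R A]
    [IsNoetherianRing R] [Algebra.EssFiniteType R A] [Algebra.FormallySmooth R A] :
    Module.Flat R A := by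
  let B := Algebra.EssFiniteType.subalgebra R A
  let M := Algebra.EssFiniteType.submonoid R A
  obtain ⟨m, f, hf⟩ := Algebra.FiniteType.iff_quotient_mvPolynomial''.mp
    (inferInstance : Algebra.FiniteType R B)
  let P := MvPolynomial (Fin m) R
  let N : Submonoid P := M.comap f.toRingHom
  let S := Localization N
  haveI : IsNoetherianRing S := IsLocalization.isNoetherianRing N S inferInstance
  haveI : Module.Flat P S := IsLocalization.flat _ N
  haveI : Module.Flat R S := Module.Flat.trans R P S
  let φ : S →ₐ[R] A := IsLocalization.liftAlgHom (M := N) (f := B.val.comp f) fun y =>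
    IsLocalization.map_units A (⟨f y, y.2⟩ : M)
  refine Algebra.FormallySmooth.flat_of_algHom_of_isNoetherianRing φ fun a => ?_
  obtain ⟨b, s, rfl⟩ := IsLocalization.exists_mk'_eq M a
  obtain ⟨b, rfl⟩ := hf b
  obtain ⟨s', hs'⟩ := hf (s : B)
  have hs : s' ∈ N := show f s' ∈ M by rw [hs']; exact s.2
  refine ⟨IsLocalization.mk' S b (⟨s', hs⟩ : N), ?_⟩
  show IsLocalization.liftAlgHom (M := N) _ _ = _
  rw [IsLocalization.liftAlgHom_apply, IsLocalization.lift_mk'_spec]
  show ((f b : B) : A) = ((f s' : B) : A) * _
  rw [hs']
  exact (IsLocalization.mk'_spec' A (f b) s).symm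

variable (k K : Type u) [Field k] [Field K] [Algebra k K] [Algebra.EssFiniteType k K]

theorem exists_D_basis : ∃ t : Fin (Module.finrank K Ω[K⁄k]) → K,
    Submodule.span K (Set.range fun i => KaehlerDifferential.D k K (t i)) = ⊤ := by
  obtain ⟨b, hbs, hspan, hli⟩ := exists_linearIndependent K (Set.range (KaehlerDifferential.D k K))
  rw [KaehlerDifferential.span_range_derivation k K] at hspan
  let B : Module.Basis b K Ω[K⁄k] := Module.Basis.mk hli (by rw [Subtype.range_coe, hspan])
  haveI : Finite b := Module.Finite.finite_basis B
  haveI := Fintype.ofFinite b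
  let e : Fin (Module.finrank K Ω[K⁄k]) ≃ b :=
    (finCongr (Module.finrank_eq_card_basis B)).trans (Fintype.equivFin b).symm
  choose t ht using fun i => hbs (e i).2
  refine ⟨t, ?_⟩
  rw [funext ht, ← hspan]
  exact congrArg _ ((e.surjective.range_comp _).trans Subtype.range_coe)

theorem isSeparable_adjoin_of_span {ι : Type*} (t : ι → K)
    (h : Submodule.span K (Set.range fun i => KaehlerDifferential.D k K (t i)) = ⊤) :
    Algebra.IsSeparable (IntermediateField.adjoin k (Set.range t)) K := by
  let F := IntermediateField.adjoin k (Set.range t)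
  haveI : Algebra.EssFiniteType F K := Algebra.EssFiniteType.of_comp k F K
  haveI : Algebra.FormallyUnramified F K := by
    refine ⟨subsingleton_of_forall_eq 0 fun w => ?_⟩
    obtain ⟨v, rfl⟩ := KaehlerDifferential.map_surjective k F K w
    have hle : (⊤ : Submodule K Ω[K⁄k]) ≤ LinearMap.ker (KaehlerDifferential.map k F K K) := by
      rw [← h, Submodule.span_le]
      rintro _ ⟨i, rfl⟩
      rw [SetLike.mem_coe, LinearMap.mem_ker, KaehlerDifferential.map_D, Algebra.algebraMap_self,
        RingHom.id_apply]
      exact (KaehlerDifferential.D F K).map_algebraMap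
        (⟨t i, IntermediateField.subset_adjoin _ _ ⟨i, rfl⟩⟩ : F)
    exact hle Submodule.mem_top
  exact Algebra.FormallyUnramified.isSeparable F K

theorem isAlgebraic_adjoin_of_span {ι : Type*} (t : ι → K)
    (h : Submodule.span K (Set.range fun i => KaehlerDifferential.D k K (t i)) = ⊤) :
    Algebra.IsAlgebraic (Algebra.adjoin k (Set.range t)) K := by
  haveI := isSeparable_adjoin_of_span k K t h
  haveI : Algebra.IsAlgebraic (IntermediateField.adjoin k (Set.range t)) K :=
    Algebra.IsSeparable.isAlgebraic _ _
  exact (IsFractionRing.comap_isAlgebraic_iff (A := Algebra.adjoin k (Set.range t))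
    (K := IntermediateField.adjoin k (Set.range t)) (C := K)).2 this

theorem trdeg_le_finrank_kaehler :
    Algebra.trdeg k K ≤ (Module.finrank K Ω[K⁄k] : Cardinal.{u}) := by
  obtain ⟨t, ht⟩ := exists_D_basis k K
  haveI := isAlgebraic_adjoin_of_span k K t ht
  refine (Algebra.IsAlgebraic.trdeg_le_cardinalMk k (Set.range t)).trans ?_
  calc _ ≤ Cardinal.lift.{u} (Cardinal.mk (Fin (Module.finrank K Ω[K⁄k]))) := by
        simpa using Cardinal.mk_range_le_lift (f := t)
    _ = _ := by simp

/-- Separable finitely generated extensions: the rank of the differentials is the transcendence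
degree. -/
theorem finrank_kaehler_eq_trdeg [Algebra.FormallySmooth k K] :
    (Module.finrank K Ω[K⁄k] : Cardinal.{u}) = Algebra.trdeg k K := by
  refine le_antisymm ?_ (trdeg_le_finrank_kaehler k K)
  obtain ⟨t, ht⟩ := exists_D_basis k K
  let P := MvPolynomial (Fin (Module.finrank K Ω[K⁄k])) k
  letI : Algebra P K := (aeval t).toAlgebra
  haveI : IsScalarTower k P K := IsScalarTower.of_algebraMap_eq fun c => ((aeval t).commutes c).symm
  have hX : ∀ i, algebraMap P K (X i) = t i := fun i => aeval_X t i
  have hli : LinearIndependent K (fun i => KaehlerDifferential.D k K (t i)) :=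
    linearIndependent_of_top_le_span_of_card_eq_finrank ht.ge (Fintype.card_fin _)
  haveI : Algebra.FormallyEtale P K := by
    rw [GrothLib.LocProp.formallyEtale_mvPolynomial_iff k K,
      show (fun i => KaehlerDifferential.D k K (algebraMap P K (X i))) =
        fun i => KaehlerDifferential.D k K (t i) from funext fun i => by rw [hX]]
    refine ⟨hli, ?_⟩
    rw [← LinearMap.range_eq_top, Finsupp.range_linearCombination]
    exact ht
  haveI : Algebra.EssFiniteType P K := Algebra.EssFiniteType.of_comp k P K
  haveI := flat_of_formallySmooth_essFiniteType P K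
  have hinj : Function.Injective (aeval t : P →ₐ[k] K) := by
    refine (injective_iff_map_eq_zero _).2 fun p hp => ?_
    have : p • (1 : K) = 0 := by
      rw [Algebra.smul_def, mul_one]
      exact hp
    exact (smul_eq_zero.1 this).resolve_right one_ne_zero
  have := AlgebraicIndependent.lift_cardinalMk_le_trdeg (show AlgebraicIndependent k t from hinj)
  simpa using this

/-- If there are no more differentials than the transcendence degree, the extension is separable. -/
theorem formallySmooth_of_finrank_le (h : (Module.finrank K Ω[K⁄k] : Cardinal.{u}) ≤ Algebra.trdeg k K) :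
    Algebra.FormallySmooth k K := by
  obtain ⟨t, ht⟩ := exists_D_basis k K
  haveI := isAlgebraic_adjoin_of_span k K t ht
  haveI := isSeparable_adjoin_of_span k K t ht
  have hb := Algebra.IsAlgebraic.isTranscendenceBasis_of_lift_le_trdeg_of_finite k t (by simpa using h)
  exact Algebra.FormallySmooth.of_algebraicIndependent_of_isSeparable hb.1

end GrothLib.UnrMono
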