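import Groth.Agent.Lib.NormalSmooth.Basic
import Groth.Agent.Lib.RedSmooth.Basic
import Groth.Agent.Lib.LocProp.Stalk
import Groth.Agent.Lib.UnrMono.FieldDim

/-!
# Reducedness and normality of local rings along smooth morphisms
-/

set_option autoImplicit false
set_option backward.isDefEq.respectTransparency false
universe u

open CategoryTheory CategoryTheory.Limits AlgebraicGeometry Opposite TensorProduct

namespace GrothLib.UnrMono

/-- The local ring of a smooth scheme is a localisation of a smooth algebra over the local ring of the base. -/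
theorem exists_smooth_localization {X Z : Scheme.{u}} (g : Z ⟶ X) [Smooth g] (z : Z) :
    ∃ (S : Type u) (_ : CommRing S) (_ : Algebra (X.presheaf.stalk (g z)) S)
      (_ : Algebra.Smooth (X.presheaf.stalk (g z)) S) (q : Ideal S) (_ : q.IsPrime)
      (_ : Algebra S (Z.presheaf.stalk z)), IsLocalization.AtPrime (Z.presheaf.stalk z) q := by
  obtain ⟨_, ⟨V, hV, rfl⟩, hxV, -⟩ :=
    X.isBasis_affineOpens.exists_subset_of_mem_open (Set.mem_univ (g z)) isOpen_univ
  obtain ⟨_, ⟨W, hW, rfl⟩, hzW, hWV⟩ :=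
    Z.isBasis_affineOpens.exists_subset_of_mem_open hxV (g ⁻¹ᵁ V).2
  have he := HasRingHomProperty.appLE @Smooth g inferInstance ⟨V, hV⟩ ⟨W, hW⟩ hWV
  letI := (g.appLE V W hWV).hom.toAlgebra
  haveI : Algebra.Smooth Γ(X, V) Γ(Z, W) := he
  letI := TopCat.Presheaf.algebra_section_stalk X.presheaf (⟨g z, hxV⟩ : V)
  letI := TopCat.Presheaf.algebra_section_stalk Z.presheaf (⟨z, hzW⟩ : W)
  let A := X.presheaf.stalk (g z)
  let O := Z.presheaf.stalk z
  haveI := hV.isLocalization_stalk ⟨g z, hxV⟩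
  haveI := hW.isLocalization_stalk ⟨z, hzW⟩
  let pV := (hV.primeIdealOf ⟨g z, hxV⟩).asIdeal
  let pW := (hW.primeIdealOf ⟨z, hzW⟩).asIdeal
  let M := Algebra.algebraMapSubmonoid Γ(Z, W) pV.primeCompl
  letI : Algebra Γ(Z, W) (A ⊗[Γ(X, V)] Γ(Z, W)) := Algebra.TensorProduct.rightAlgebra
  haveI : IsLocalization M (A ⊗[Γ(X, V)] Γ(Z, W)) := inferInstance
  have hcomm : ∀ r : Γ(X, V), algebraMap Γ(Z, W) O (algebraMap Γ(X, V) Γ(Z, W) r) =
      (g.stalkMap z).hom (algebraMap Γ(X, V) A r) := fun r => by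
    show (Z.presheaf.germ W z hzW).hom ((g.appLE V W hWV).hom r) =
      (g.stalkMap z).hom ((X.presheaf.germ V (g z) hxV).hom r)
    rw [Scheme.Hom.germ_stalkMap_apply g V z hxV r, Scheme.Hom.appLE]
    exact TopCat.Presheaf.germ_res_apply Z.presheaf (homOfLE hWV) z hzW _
  have hunit : ∀ m : M, IsUnit (algebraMap Γ(Z, W) O m) := by
    rintro ⟨_, r, hr, rfl⟩
    rw [hcomm r]
    exact (IsLocalization.map_units A (⟨r, hr⟩ : pV.primeCompl)).map _
  let φ : A ⊗[Γ(X, V)] Γ(Z, W) →+* O := IsLocalization.lift (M := M) hunit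
  letI : Algebra (A ⊗[Γ(X, V)] Γ(Z, W)) O := φ.toAlgebra
  haveI : IsScalarTower Γ(Z, W) (A ⊗[Γ(X, V)] Γ(Z, W)) O :=
    IsScalarTower.of_algebraMap_eq fun s => (IsLocalization.lift_eq hunit s).symm
  have hle : M ≤ pW.primeCompl := fun m hm =>
    (IsLocalization.AtPrime.isUnit_to_map_iff O pW m).1 (hunit ⟨m, hm⟩)
  haveI := IsLocalization.isLocalization_of_submonoid_le (A ⊗[Γ(X, V)] Γ(Z, W)) O M pW.primeCompl hle
  let q : Ideal (A ⊗[Γ(X, V)] Γ(Z, W)) := (IsLocalRing.maximalIdeal O).comap φ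
  haveI : q.IsPrime := Ideal.IsPrime.comap φ
  haveI : IsLocalization.AtPrime O q :=
    IsLocalization.of_le (pW.primeCompl.map (algebraMap Γ(Z, W) (A ⊗[Γ(X, V)] Γ(Z, W)))) q.primeCompl
      (by
        rintro _ ⟨s, hs, rfl⟩ h
        refine h ?_
        show IsUnit (φ (algebraMap Γ(Z, W) _ s))
        rw [IsLocalization.lift_eq hunit s]
        exact IsLocalization.map_units O (⟨s, hs⟩ : pW.primeCompl))
      (fun r hr => IsLocalRing.notMem_maximalIdeal.1 hr)
  exact ⟨A ⊗[Γ(X, V)] Γ(Z, W), inferInstance, inferInstance, inferInstance, q, inferInstance,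
    φ.toAlgebra, inferInstance⟩

theorem isReduced_stalk_of_smooth {X Z : Scheme.{u}} (g : Z ⟶ X) [Smooth g] (z : Z)
    [IsReduced (X.presheaf.stalk (g z))] : IsReduced (Z.presheaf.stalk z) := by
  obtain ⟨S, _, _, _, q, _, _, _⟩ := exists_smooth_localization g z
  haveI := GrothLib.RedSmooth.isReduced_of_algebra_smooth (X.presheaf.stalk (g z)) S
  exact isReduced_localizationPreserves q.primeCompl (Z.presheaf.stalk z) inferInstance

theorem isNormal_stalk_of_smooth {X Z : Scheme.{u}} (g : Z ⟶ X) [Smooth g] (z : Z)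
    [IsDomain (X.presheaf.stalk (g z))] [IsIntegrallyClosed (X.presheaf.stalk (g z))] :
    IsDomain (Z.presheaf.stalk z) ∧ IsIntegrallyClosed (Z.presheaf.stalk z) := by
  obtain ⟨S, _, _, _, q, _, _, _⟩ := exists_smooth_localization g z
  obtain ⟨h1, h2⟩ := GrothLib.NormalSmooth.isNormalRing_of_smooth (X.presheaf.stalk (g z)) S
    (fun p _ => ⟨IsLocalization.isDomain_localization (Ideal.primeCompl_le_nonZeroDivisors p),
      isIntegrallyClosed_of_isLocalization _ p.primeCompl (Ideal.primeCompl_le_nonZeroDivisors p)⟩) q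
  let e := (IsLocalization.algEquiv q.primeCompl (Localization.AtPrime q)
    (Z.presheaf.stalk z)).toRingEquiv
  exact ⟨e.symm.injective.isDomain, IsIntegrallyClosed.of_equiv e⟩

/-- Reducedness and normality agree at a smooth point and its image. -/
theorem reduced_normal_iff_of_smoothAt {X Y : Scheme.{u}} (f : X ⟶ Y)
    [LocallyOfFinitePresentation f] (x : X) (hx : x ∈ f.smoothLocus) :
    (IsReduced (X.presheaf.stalk x) ↔ IsReduced (Y.presheaf.stalk (f x))) ∧
    ((IsDomain (X.presheaf.stalk x) ∧ IsIntegrallyClosed (X.presheaf.stalk x)) ↔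
      (IsDomain (Y.presheaf.stalk (f x)) ∧ IsIntegrallyClosed (Y.presheaf.stalk (f x)))) := by
  obtain ⟨U, hxU, hU⟩ := (GrothLib.LocProp.smooth_nhd_iff f x).2 hx
  letI := (f.stalkMap x).hom.toAlgebra
  haveI : IsLocalHom (algebraMap (Y.presheaf.stalk (f x)) (X.presheaf.stalk x)) :=
    inferInstanceAs (IsLocalHom (f.stalkMap x).hom)
  haveI : Module.Flat (Y.presheaf.stalk (f x)) (X.presheaf.stalk x) :=
    (GrothLib.LocProp.stalkMap_comp_ι_iff RingHom.Flat.respectsIso U.ι f ⟨x, hxU⟩).mp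
      (Flat.stalkMap (U.ι ≫ f) ⟨x, hxU⟩)
  haveI : Module.FaithfullyFlat (Y.presheaf.stalk (f x)) (X.presheaf.stalk x) :=
    Module.FaithfullyFlat.of_flat_of_isLocalHom
  let e : (U : Scheme.{u}).presheaf.stalk ⟨x, hxU⟩ ≃+* X.presheaf.stalk x :=
    (U.stalkIso ⟨x, hxU⟩).commRingCatIsoToRingEquiv
  refine ⟨⟨fun h => isReduced_of_injective _ (FaithfulSMul.algebraMap_injective
      (Y.presheaf.stalk (f x)) (X.presheaf.stalk x)), fun h => ?_⟩,
    ⟨fun ⟨_, _⟩ => GrothLib.EtBasicB.normal_of_normal_target _ (X.presheaf.stalk x), fun ⟨h, h'⟩ => ?_⟩⟩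
  · haveI : IsReduced (Y.presheaf.stalk ((U.ι ≫ f) ⟨x, hxU⟩)) := h
    haveI := isReduced_stalk_of_smooth (U.ι ≫ f) ⟨x, hxU⟩
    exact isReduced_of_injective e.symm e.symm.injective
  · haveI : IsDomain (Y.presheaf.stalk ((U.ι ≫ f) ⟨x, hxU⟩)) := h
    haveI : IsIntegrallyClosed (Y.presheaf.stalk ((U.ι ≫ f) ⟨x, hxU⟩)) := h'
    obtain ⟨h1, h2⟩ := isNormal_stalk_of_smooth (U.ι ≫ f) ⟨x, hxU⟩
    exact ⟨e.symm.injective.isDomain, IsIntegrallyClosed.of_equiv e⟩

end GrothLib.UnrMono
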