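import Groth.Agent.Lib.UnrMono.NormalTarget
import Groth.Agent.Lib.AffDom.LocalDim
import Groth.Agent.Lib.FibreFlat.Fibrewise
import Groth.Agent.Lib.LocProp.Stalk
import Mathlib.RingTheory.TensorProduct.Quotient

/-!
# Étaleness from unramifiedness and equality of fibre dimensions over a normal fibre
-/

universe u

namespace GrothLib.UnrMono

open AlgebraicGeometry CategoryTheory Limits IsLocalRing TensorProduct

theorem trdeg_eq_of_isIntegral {K L M : Type u} [Field K] [Field L] [Field M] (i : K →+* L)
    (j : K →+* M) (φ : L →+* M) (h : φ.comp i = j) (hint : φ.IsIntegral) :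
    (letI := j.toAlgebra; Algebra.trdeg K M) = (letI := i.toAlgebra; Algebra.trdeg K L) := by
  letI := i.toAlgebra
  letI := j.toAlgebra
  letI := φ.toAlgebra
  haveI : IsScalarTower K L M := IsScalarTower.of_algebraMap_eq' h.symm
  haveI : Algebra.IsIntegral L M := ⟨hint⟩
  exact GrothLib.Dim.trdeg_eq_of_algebraic

/-- Unramified points have the same dimension as their images. -/
theorem ptDim_eq_of_unramified {K : Type u} [Field K] {A B : Scheme.{u}} (F : A ⟶ B)
    (q : B ⟶ Spec (CommRingCat.of K)) [LocallyOfFiniteType q] [LocallyOfFiniteType F] (z : A)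
    (hu : (F.stalkMap z).hom.FormallyUnramified) :
    GrothLib.AffDom.ptDim z = GrothLib.AffDom.ptDim (F z) := by
  obtain ⟨a, ha, ha'⟩ := GrothLib.AffDom.exists_dim_closure (F ≫ q) z
  obtain ⟨b, hb, hb'⟩ := GrothLib.AffDom.exists_dim_closure q (F z)
  show topologicalKrullDim (closure {z} : Set A) = topologicalKrullDim (closure {F z} : Set B)
  rw [ha, hb]
  suffices h : (a : Cardinal.{u}) = b by exact_mod_cast h
  rw [← ha', ← hb']
  letI : Algebra (B.presheaf.stalk (F z)) (A.presheaf.stalk z) := (F.stalkMap z).hom.toAlgebra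
  haveI : IsLocalHom (algebraMap (B.presheaf.stalk (F z)) (A.presheaf.stalk z)) :=
    inferInstanceAs (IsLocalHom (F.stalkMap z).hom)
  haveI : Algebra.FormallyUnramified (B.presheaf.stalk (F z)) (A.presheaf.stalk z) := hu
  haveI : Algebra.EssFiniteType (B.presheaf.stalk (F z)) (A.presheaf.stalk z) :=
    LocallyOfFiniteType.stalkMap F z
  have hsep : Algebra.IsSeparable (ResidueField (B.presheaf.stalk (F z)))
      (ResidueField (A.presheaf.stalk z)) := inferInstance
  have hint : (F.residueFieldMap z).hom.IsIntegral := by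
    have h1 : (algebraMap (ResidueField (B.presheaf.stalk (F z))) (ResidueField (A.presheaf.stalk z))).IsIntegral :=
      fun y => Algebra.IsIntegral.isIntegral y
    have h2 : (F.residueFieldMap z).hom = algebraMap (ResidueField (B.presheaf.stalk (F z)))
        (ResidueField (A.presheaf.stalk z)) := by
      refine RingHom.ext fun c => ?_
      obtain ⟨c, rfl⟩ := IsLocalRing.residue_surjective c
      rfl
    rw [h2]; exact h1
  exact trdeg_eq_of_isIntegral _ _ _ (GrothLib.AffDom.toRes_comp F q z).symm hint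

theorem natCast_add_left_cancel (n : ℕ) {a b : WithBot ℕ∞}
    (h : (n : WithBot ℕ∞) + a = (n : WithBot ℕ∞) + b) : a = b := by
  induction a with
  | bot =>
    induction b with
    | bot => rfl
    | coe b =>
      exfalso
      rw [WithBot.add_bot] at h
      exact absurd h.symm (WithBot.add_ne_bot.2 ⟨WithBot.natCast_ne_bot n, WithBot.coe_ne_bot⟩)
  | coe a =>
    induction b with
    | bot => simp at h
    | coe b =>
      have h' : (n : ℕ∞) + a = (n : ℕ∞) + b := WithBot.coe_eq_coe.1 h
      rw [(ENat.addLECancellable_of_ne_top (ENat.coe_ne_top n)).inj.1 h']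

/-- Over a field: flatness at an unramified point with normal image is equality of local dimensions. -/
theorem flat_stalkMap_iff_localDim {K : Type u} [Field K] {A B : Scheme.{u}} (F : A ⟶ B)
    (q : B ⟶ Spec (CommRingCat.of K)) [LocallyOfFiniteType q] [LocallyOfFiniteType F] (z : A)
    (hu : (F.stalkMap z).hom.FormallyUnramified)
    (hn : IsDomain (B.presheaf.stalk (F z)) ∧ IsIntegrallyClosed (B.presheaf.stalk (F z))) :
    (F.stalkMap z).hom.Flat ↔ FlatMor.localDim A z = FlatMor.localDim B (F z) := by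
  haveI : IsLocallyNoetherian B := LocallyOfFiniteType.isLocallyNoetherian q
  letI : Algebra (B.presheaf.stalk (F z)) (A.presheaf.stalk z) := (F.stalkMap z).hom.toAlgebra
  haveI : IsLocalHom (algebraMap (B.presheaf.stalk (F z)) (A.presheaf.stalk z)) :=
    inferInstanceAs (IsLocalHom (F.stalkMap z).hom)
  haveI : Algebra.FormallyUnramified (B.presheaf.stalk (F z)) (A.presheaf.stalk z) := hu
  haveI : Algebra.EssFiniteType (B.presheaf.stalk (F z)) (A.presheaf.stalk z) :=
    LocallyOfFiniteType.stalkMap F z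
  obtain ⟨_, _⟩ := hn
  rw [GrothLib.AffDom.localDim_eq (F ≫ q) z, GrothLib.AffDom.localDim_eq q (F z),
    ptDim_eq_of_unramified F q z hu]
  constructor
  · intro hfl
    haveI : Module.Flat (B.presheaf.stalk (F z)) (A.presheaf.stalk z) := hfl
    rw [GrothLib.EtBasicB.ringKrullDim_eq (B.presheaf.stalk (F z)) (A.presheaf.stalk z)]
  · intro h
    obtain ⟨n, hn⟩ := GrothLib.AffDom.exists_nat_ptDim q (F z)
    rw [hn] at h
    exact flat_of_formallyUnramified_of_normal _ _ (natCast_add_left_cancel n h).ge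

theorem flat_quotientMap {A B : Type u} [CommRing A] [CommRing B] [Algebra A B] [Module.Flat A B]
    (J : Ideal A) : Module.Flat (A ⧸ J) (B ⧸ J.map (algebraMap A B)) := by
  let e : (A ⧸ J) ⊗[A] B ≃ₗ[A] B ⧸ J.map (algebraMap A B) :=
    (TensorProduct.comm A _ _).trans
      ((Algebra.TensorProduct.quotIdealMapEquivTensorQuot B J).symm.toLinearEquiv.restrictScalars A)
  exact Module.Flat.of_linearEquiv
    (LinearEquiv.extendScalarsOfSurjective (S := A ⧸ J) Ideal.Quotient.mk_surjective e).symm

/-- Flatness and unramifiedness pass to the quotients by an ideal of the base. -/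
theorem quotientMap_props {A B : Type u} [CommRing A] [CommRing B] (φ : A →+* B) (I : Ideal A)
    (J : Ideal B) (hJ : I.map φ = J) (h : I ≤ J.comap φ) :
    (φ.Flat → (Ideal.quotientMap J φ h).Flat) ∧
      (φ.FormallyUnramified → (Ideal.quotientMap J φ h).FormallyUnramified) := by
  subst hJ
  letI := φ.toAlgebra
  refine ⟨fun hf => ?_, fun hu => ?_⟩
  · haveI : Module.Flat A B := hf
    have h1 := RingHom.flat_algebraMap_iff.2 (flat_quotientMap (A := A) (B := B) I)
    have h2 : algebraMap (A ⧸ I) (B ⧸ I.map (algebraMap A B)) = Ideal.quotientMap _ φ h :=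
      Ideal.Quotient.ringHom_ext rfl
    rw [← h2]
    exact h1
  · letI : Algebra (A ⧸ I) (B ⧸ I.map φ) := (Ideal.quotientMap _ φ h).toAlgebra
    haveI : IsScalarTower A (A ⧸ I) (B ⧸ I.map φ) := IsScalarTower.of_algebraMap_eq fun _ => rfl
    haveI : Algebra.FormallyUnramified A B := hu
    haveI : Algebra.FormallyUnramified A (B ⧸ I.map φ) := Algebra.FormallyUnramified.comp A B _
    exact Algebra.FormallyUnramified.of_restrictScalars A (A ⧸ I) (B ⧸ I.map φ)

variable {X Y S : Scheme.{u}}

set_option backward.isDefEq.respectTransparency false in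
theorem map_maximalIdeal_comp (f : X ⟶ Y) (g : Y ⟶ S) (x : X) :
    ((maximalIdeal (S.presheaf.stalk (g (f x)))).map (g.stalkMap (f x)).hom).map (f.stalkMap x).hom =
      (maximalIdeal (S.presheaf.stalk ((f ≫ g) x))).map ((f ≫ g).stalkMap x).hom := by
  rw [Ideal.map_map]
  refine congrArg (fun k => Ideal.map k _) ?_
  rw [Scheme.Hom.stalkMap_comp]
  rfl

set_option backward.isDefEq.respectTransparency false in
/-- At an unramified point with flat source and normal fibre at the image. -/
theorem flat_iff_fibreDimAt_eq (f : X ⟶ Y) (g : Y ⟶ S) [LocallyOfFinitePresentation (f ≫ g)]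
    [LocallyOfFinitePresentation g] (x : X) (hflat : ((f ≫ g).stalkMap x).hom.Flat)
    (hnorm : IsDomain ((g.fiber (g (f x))).presheaf.stalk (g.asFiber (f x))) ∧
      IsIntegrallyClosed ((g.fiber (g (f x))).presheaf.stalk (g.asFiber (f x))))
    (hu : (f.stalkMap x).hom.FormallyUnramified) :
    (f.stalkMap x).hom.Flat ↔ FlatMor.fibreDimAt (f ≫ g) x = FlatMor.fibreDimAt g (f x) := by
  let F := MoreMor.fiberMap f g (g (f x))
  let z : (f ≫ g).fiber (g (f x)) := (f ≫ g).asFiber x
  have hz : (f ≫ g).fiberι (g (f x)) z = x := (f ≫ g).fiberι_asFiber x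
  have hfac : F ≫ g.fiberι (g (f x)) = (f ≫ g).fiberι (g (f x)) ≫ f := pullback.lift_fst ..
  have hsnd : F ≫ g.fiberToSpecResidueField (g (f x)) = (f ≫ g).fiberToSpecResidueField (g (f x)) :=
    pullback.lift_snd ..
  have hFz : F z = g.asFiber (f x) := by
    refine (g.fiberι (g (f x))).isEmbedding.injective ?_
    rw [← Scheme.Hom.comp_apply, hfac, Scheme.Hom.comp_apply, hz, Scheme.Hom.fiberι_asFiber]
  haveI : LocallyOfFiniteType (g.fiberToSpecResidueField (g (f x))) :=
    MorphismProperty.pullback_snd _ _ inferInstance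
  haveI : LocallyOfFiniteType ((f ≫ g).fiberToSpecResidueField (g (f x))) :=
    MorphismProperty.pullback_snd _ _ inferInstance
  haveI : LocallyOfFiniteType F := by
    haveI : LocallyOfFiniteType (F ≫ g.fiberToSpecResidueField (g (f x))) := hsnd ▸ inferInstance
    exact locallyOfFiniteType_of_comp F (g.fiberToSpecResidueField (g (f x)))
  have hFu : (F.stalkMap z).hom.FormallyUnramified :=
    (GrothLib.FibreFlat.fiberMap_stalkMap_iff RingHom.FormallyUnramified.respectsIso f g _ z x hz).2
      ((quotientMap_props _ _ _ (map_maximalIdeal_comp f g x) _).2 hu)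
  have hFn : IsDomain ((g.fiber (g (f x))).presheaf.stalk (F z)) ∧
      IsIntegrallyClosed ((g.fiber (g (f x))).presheaf.stalk (F z)) := by
    rw [hFz]; exact hnorm
  have key := flat_stalkMap_iff_localDim F (g.fiberToSpecResidueField (g (f x))) z hFu hFn
  have hFflat := GrothLib.FibreFlat.flat_fiberMap_stalkMap_iff f g _ z x hz
  have hd : (FlatMor.fibreDimAt (f ≫ g) x = FlatMor.fibreDimAt g (f x)) ↔
      (FlatMor.localDim ((f ≫ g).fiber (g (f x))) z = FlatMor.localDim (g.fiber (g (f x))) (F z)) := by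
    rw [hFz]; exact Iff.rfl
  rw [hd, ← key, hFflat]
  refine ⟨fun h => (quotientMap_props _ _ _ (map_maximalIdeal_comp f g x) _).1 h, fun h => ?_⟩
  exact ((GrothLib.FibreFlat.critere_par_fibres f g x).1 ⟨hflat, h⟩).2

set_option backward.isDefEq.respectTransparency false in
/-- Étale near the point. -/
theorem etale_nhd_iff_fibreDimAt (f : X ⟶ Y) (g : Y ⟶ S) [LocallyOfFinitePresentation (f ≫ g)]
    [LocallyOfFinitePresentation g] (x : X) (hflat : ((f ≫ g).stalkMap x).hom.Flat)
    (hnorm : IsDomain ((g.fiber (g (f x))).presheaf.stalk (g.asFiber (f x))) ∧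
      IsIntegrallyClosed ((g.fiber (g (f x))).presheaf.stalk (g.asFiber (f x)))) :
    (∃ U : X.Opens, x ∈ U ∧ Etale (U.ι ≫ f)) ↔
      (∃ U : X.Opens, x ∈ U ∧ FormallyUnramified (U.ι ≫ f)) ∧
        FlatMor.fibreDimAt (f ≫ g) x = FlatMor.fibreDimAt g (f x) := by
  haveI : LocallyOfFinitePresentation f :=
    GrothLib.DiagGrp.lfp_of_comp_of_lft f g inferInstance inferInstance
  rw [GrothLib.LocProp.etale_nhd_iff f x, GrothLib.LocProp.formallyUnramified_nhd_iff f x]
  constructor
  · rintro ⟨h1, h2⟩
    exact ⟨h2, (flat_iff_fibreDimAt_eq f g x hflat hnorm h2).1 h1⟩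
  · rintro ⟨h1, h2⟩
    exact ⟨(flat_iff_fibreDimAt_eq f g x hflat hnorm h1).2 h2, h1⟩

end GrothLib.UnrMono
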