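import Mathlib

/-! # Maximal points and flat locally quasi-finite morphisms -/

universe u

open CategoryTheory AlgebraicGeometry Topology

namespace GrothLib.MaxPt

theorem closure_mem_irreducibleComponents_iff {α : Type*} [TopologicalSpace α] [QuasiSober α] [T0Space α] (x : α) :
    closure ({x} : Set α) ∈ irreducibleComponents α ↔ ∀ x', x' ⤳ x → x' = x := by
  constructor
  · intro h x' hx'
    exact ((isGenericPoint_closure (x := x)).eq (S := closure {x})
      ((isGenericPoint_def).2 (le_antisymm (h.2 isIrreducible_singleton.closure (specializes_iff_closure_subset.1 hx'))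
        (specializes_iff_closure_subset.1 hx')))).symm
  · intro h
    refine ⟨isIrreducible_singleton.closure, fun Z hZ hle => ?_⟩
    have hg := hZ.closure.isGenericPoint_genericPoint isClosed_closure
    have h1 : hZ.closure.genericPoint = x :=
      h _ (hg.specializes (subset_closure (hle (subset_closure rfl))))
    rw [h1] at hg
    exact subset_closure.trans hg.def.ge

variable {X Y : Scheme.{u}} (f : X ⟶ Y)

theorem eq_of_specializes_of_map_eq [LocallyQuasiFinite f] {x x' : X} (hs : x' ⤳ x) (hf : f x' = f x) : x' = x := by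
  have hd := f.isDiscrete_preimage_singleton (f x)
  let a : f ⁻¹' {f x} := ⟨x', hf⟩
  let b : f ⁻¹' {f x} := ⟨x, rfl⟩
  have hab : a ⤳ b := (subtype_specializes_iff a b).2 hs
  haveI := isDiscrete_iff_discreteTopology.1 hd
  exact congrArg Subtype.val hab.eq

theorem maximal_iff [Flat f] [LocallyQuasiFinite f] (x : X) :
    (∀ x', x' ⤳ x → x' = x) ↔ (∀ y', y' ⤳ f x → y' = f x) := by
  constructor
  · intro h y' hy'
    obtain ⟨x', hx', rfl⟩ := (Flat.generalizingMap f) hy'
    rw [h x' hx']
  · intro h x' hx'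
    exact eq_of_specializes_of_map_eq f hx' (h _ (hx'.map f.continuous))

theorem map_eq_genericPoint_iff [IrreducibleSpace Y] [Flat f] [LocallyQuasiFinite f] (x : X) :
    f x = genericPoint Y ↔ closure ({x} : Set X) ∈ irreducibleComponents X := by
  rw [closure_mem_irreducibleComponents_iff, maximal_iff f]
  constructor
  · intro h y' hy'
    rw [h] at hy' ⊢
    exact (hy'.antisymm (genericPoint_specializes y')).eq
  · intro h
    exact (h _ (genericPoint_specializes _)).symm

theorem locallyFinite_components [Flat f] [LocallyQuasiFinite f]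
    (hY : LocallyFinite (fun Z : ↥(irreducibleComponents Y) => (Z : Set Y))) :
    LocallyFinite (fun Z : ↥(irreducibleComponents X) => (Z : Set X)) := by
  intro x
  obtain ⟨N, hN, hfin⟩ := hY (f x)
  obtain ⟨N', hN'N, hN'o, hxN'⟩ := mem_nhds_iff.1 hN
  obtain ⟨V, hV, hxV, hVN⟩ := exists_isAffineOpen_mem_and_subset (U := (⟨N', hN'o⟩ : Y.Opens)) hxN'
  obtain ⟨U, hU, hxU, hUV⟩ := exists_isAffineOpen_mem_and_subset (U := f ⁻¹ᵁ V) (x := x) hxV
  refine ⟨U, U.2.mem_nhds hxU, ?_⟩
  haveI : IsAffine U.toScheme := hU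
  haveI : IsAffine V.toScheme := hV
  let g := f.resLE V U hUV
  have hgen : {y : Y | y ∈ N ∧ ∀ y', y' ⤳ y → y' = y}.Finite := by
    refine Set.Finite.of_finite_image (f := fun y => closure ({y} : Set Y))
      ((hfin.image Subtype.val).subset ?_) fun a ha b hb hab => ?_
    · rintro _ ⟨y, ⟨hy, hmax⟩, rfl⟩
      exact ⟨⟨closure {y}, (closure_mem_irreducibleComponents_iff y).2 hmax⟩, ⟨y, subset_closure rfl, hy⟩, rfl⟩
    · exact hb.2 a (specializes_iff_closure_subset.2 hab.ge)
  have hgenV : ((fun v : V.toScheme => V.ι v) ⁻¹' {y : Y | y ∈ N ∧ ∀ y', y' ⤳ y → y' = y}).Finite :=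
    hgen.preimage (V.ι.injective.injOn)
  have hpts := (g.finite_preimage hgenV).image (fun u : U.toScheme => U.ι u)
  refine ((hpts.image fun z => closure ({z} : Set X)).preimage Subtype.val_injective.injOn).subset ?_
  rintro ⟨Z, hZ⟩ ⟨z, hzZ, hzU⟩
  have hcl := isClosed_of_mem_irreducibleComponents Z hZ
  have hg := hZ.1.isGenericPoint_genericPoint hcl
  have hmem : hZ.1.genericPoint ∈ U := (hg.specializes hzZ).mem_open U.2 hzU
  have hmax := (closure_mem_irreducibleComponents_iff _).1 (hg.def.symm ▸ hZ)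
  refine ⟨hZ.1.genericPoint, ⟨⟨hZ.1.genericPoint, hmem⟩, ?_, rfl⟩, hg.def⟩
  show V.ι (g _) ∈ {y : Y | y ∈ N ∧ ∀ y', y' ⤳ y → y' = y}
  rw [show V.ι (g ⟨hZ.1.genericPoint, hmem⟩) = f hZ.1.genericPoint from
    congrArg (fun φ : U.toScheme ⟶ Y => φ ⟨hZ.1.genericPoint, hmem⟩) (f.resLE_comp_ι hUV)]
  exact ⟨hN'N (hVN (hUV hmem)), (maximal_iff f _).1 hmax⟩

end GrothLib.MaxPt
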