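import Mathlib

/-!
# Newton's lemma and Krasner's lemma in complete one-dimensional local domains
-/

universe u

namespace GrothLib.UnrMono

open Polynomial

/-- Newton iteration for `e + y + y² z(y) = 0` in a complete local ring. -/
theorem exists_fixed_point {A : Type u} [CommRing A] [IsLocalRing A]
    [IsAdicComplete (IsLocalRing.maximalIdeal A) A] (e : A) (c : ℕ)
    (he : e ∈ IsLocalRing.maximalIdeal A ^ (c + 1)) (z : A[X]) :
    ∃ y ∈ IsLocalRing.maximalIdeal A ^ (c + 1), e + y + y ^ 2 * z.eval y = 0 := by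
  let m := IsLocalRing.maximalIdeal A
  let T : A → A := fun y => -(e + y ^ 2 * z.eval y)
  let s : ℕ → A := fun n => T^[n] 0
  have hs : ∀ n, s (n + 1) = T (s n) := fun n => Function.iterate_succ_apply' T n 0
  have hlip : ∀ (j : ℕ) (a b : A), a ∈ m → b ∈ m → a - b ∈ m ^ j → T a - T b ∈ m ^ (j + 1) := by
    intro j a b ha hb hab
    obtain ⟨w, hw⟩ := sub_dvd_eval_sub a b z
    have : T a - T b =
        -((a - b) * ((a + b) * z.eval a + b ^ 2 * w)) := by
      simp only [T]
      linear_combination -(b ^ 2) * hw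
    rw [this, pow_succ]
    refine neg_mem (Ideal.mul_mem_mul hab ?_)
    refine add_mem (Ideal.mul_mem_right _ _ (add_mem ha hb)) (Ideal.mul_mem_right _ _ ?_)
    exact Ideal.pow_mem_of_mem _ hb 2 two_pos
  have hle : m ^ (c + 1) ≤ m := Ideal.pow_le_self (Nat.succ_ne_zero c)
  have hin : ∀ n, s n ∈ m ^ (c + 1) := by
    intro n
    induction n with
    | zero => exact zero_mem _
    | succ n ih =>
      rw [hs]
      exact neg_mem (add_mem he (Ideal.mul_mem_right _ _ (Ideal.pow_mem_of_mem _ ih 2 two_pos)))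
  have hstep : ∀ n, s (n + 1) - s n ∈ m ^ (n + 1) := by
    intro n
    induction n with
    | zero => simpa [s, T] using hle he
    | succ n ih =>
      have := hlip (n + 1) _ _ (hle (hin (n + 1))) (hle (hin n)) ih
      rwa [← hs, ← hs] at this
  have hcau : ∀ {i j}, i ≤ j → s i - s j ∈ m ^ i := by
    intro i j hij
    induction j, hij using Nat.le_induction with
    | base => simp
    | succ j hij ih =>
      have h2 := Ideal.pow_le_pow_right (I := m) (hij.trans (Nat.le_succ j)) (hstep j)
      rw [show s i - s (j + 1) = (s i - s j) - (s (j + 1) - s j) by ring]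
      exact sub_mem ih h2
  obtain ⟨y, hy⟩ := IsPrecomplete.prec' (I := m) (M := A) s fun {i j} hij => by
    rw [SModEq.sub_mem]
    simpa using hcau hij
  have hy' : ∀ n, s n - y ∈ m ^ n := fun n => by
    have := hy n
    rw [SModEq.sub_mem] at this
    simpa using this
  have hym : y ∈ m ^ (c + 1) := by
    have := sub_mem (hin (c + 1)) (hy' (c + 1))
    rwa [sub_sub_cancel] at this
  refine ⟨y, hym, ?_⟩
  refine IsHausdorff.haus (I := m) inferInstance _ fun n => ?_
  rw [SModEq.zero]
  have h1 : s (n + 1) - y ∈ m ^ n :=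
    Ideal.pow_le_pow_right (Nat.le_succ n) (hy' (n + 1))
  have h2 : T (s n) - T y ∈ m ^ n :=
    Ideal.pow_le_pow_right (Nat.le_succ n) (hlip n _ _ (hle (hin n)) (hle hym) (hy' n))
  rw [← hs] at h2
  have h3 := sub_mem h2 h1
  rw [show s (n + 1) - T y - (s (n + 1) - y) = y - T y by ring] at h3
  have h4 : e + y + y ^ 2 * z.eval y ∈ m ^ n := by
    rw [show e + y + y ^ 2 * z.eval y = y - T y by simp [T]; ring]
    exact h3
  simpa using h4

theorem eval_mem_of_coeff_mem {A : Type u} [CommRing A] {Q : A[X]} {I : Ideal A}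
    (h : ∀ i, Q.coeff i ∈ I) (a : A) : Q.eval a ∈ I := by
  rw [eval_eq_sum, sum_def]
  exact sum_mem fun i _ => Ideal.mul_mem_right _ _ (h i)

/-- Krasner's lemma. -/
theorem krasner (A : Type u) [CommRing A] [IsDomain A] [IsLocalRing A] [IsNoetherianRing A]
    [IsAdicComplete (IsLocalRing.maximalIdeal A) A] (hdim : ringKrullDim A = 1) (P : A[X]) (α : A)
    (hα : P.eval α = 0) (hα' : (derivative P).eval α ≠ 0) (c : ℕ) :
    ∃ n : ℕ, ∀ Q : A[X], (∀ i, Q.coeff i ∈ IsLocalRing.maximalIdeal A ^ n) →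
      ∃ β : A, (P + Q).eval β = 0 ∧ β - α ∈ IsLocalRing.maximalIdeal A ^ c := by
  set d := (derivative P).eval α with hd
  set m := IsLocalRing.maximalIdeal A
  haveI : Ring.KrullDimLE 1 A := Ring.krullDimLE_iff.2 hdim.le
  obtain ⟨k, hk⟩ : ∃ k, m ^ k ≤ Ideal.span {d} := by
    refine Ideal.exists_pow_le_of_le_radical_of_fg ?_ (IsNoetherian.noetherian m)
    rw [Ideal.radical_eq_sInf]
    refine le_sInf fun p hp => ?_
    haveI : p.IsPrime := hp.2
    have hne : p ≠ ⊥ := fun hb =>
      hα' (by simpa [hb] using hp.1 (Ideal.mem_span_singleton_self d))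
    exact (IsLocalRing.eq_maximalIdeal (Ideal.IsPrime.isMaximal_of_ne_bot ‹_› hne)).ge
  refine ⟨2 * k + c + 1, fun Q hQ => ?_⟩
  have hQ1 : (derivative Q).eval α ∈ m ^ (2 * k + c + 1) := by
    refine eval_mem_of_coeff_mem (fun i => ?_) α
    rw [coeff_derivative]
    exact Ideal.mul_mem_right _ _ (hQ (i + 1))
  have hdk : m ^ (2 * k + c + 1) ≤ Ideal.span {d * d} * m ^ (c + 1) := by
    rw [show 2 * k + c + 1 = k + k + (c + 1) by ring, pow_add, pow_add,
      ← Ideal.span_singleton_mul_span_singleton]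
    exact Ideal.mul_mono (Ideal.mul_mono hk hk) le_rfl
  obtain ⟨e, he, hed⟩ := Ideal.mem_span_singleton_mul.1 (hdk (eval_mem_of_coeff_mem hQ α))
  obtain ⟨e', he', hed'⟩ := Ideal.mem_span_singleton_mul.1 (hdk hQ1)
  have hu : IsUnit (1 + d * e') := by
    by_contra h
    have hde : d * e' ∈ m := Ideal.mul_mem_left _ _ (Ideal.pow_le_self (Nat.succ_ne_zero c) he')
    exact (IsLocalRing.maximalIdeal.isMaximal A).ne_top
      (m.eq_top_iff_one.2 (by simpa using sub_mem (show 1 + d * e' ∈ m from h) hde))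
  obtain ⟨u, hu⟩ := hu
  obtain ⟨z, hz⟩ := ((P + Q).map C).binomExpansion (C α) (C d * X)
  obtain ⟨y, hy, hy0⟩ := exists_fixed_point (((u⁻¹ : Aˣ) : A) * e) c
    (Ideal.mul_mem_left _ _ he) (C ((u⁻¹ : Aˣ) : A) * z)
  refine ⟨α + d * y, ?_, ?_⟩
  · have := congrArg (Polynomial.eval y) hz
    simp only [eval_add, eval_mul, eval_C, eval_X, eval_pow] at this
    have key : ∀ R : A[X], ((R.map C).eval (C α + C d * X)).eval y = R.eval (α + d * y) := fun R => by
      rw [eval_map, ← coe_evalRingHom, hom_eval₂,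
        show (evalRingHom y).comp C = RingHom.id A from RingHom.ext fun a => eval_C]
      simp [eval₂_id]
    have key' : ∀ R : A[X], ((R.map C).eval (C α)).eval y = R.eval α := fun R => by
      rw [eval_map, eval₂_at_apply, eval_C]
    rw [key, key', derivative_map, key', derivative_add] at this
    simp only [eval_add] at this
    rw [hα, ← hd, ← hed, ← hed'] at this
    rw [eval_add, this]
    simp only [eval_mul, eval_C] at hy0
    linear_combination (d * d * (u : A)) * hy0 - d * d * y * hu -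
      (d * d * e + d * d * y ^ 2 * z.eval y) * u.mul_inv
  · simpa using Ideal.mul_mem_left _ d (Ideal.pow_le_pow_right (Nat.le_succ c) hy)

end GrothLib.UnrMono
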