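import Groth.Agent.Lib.NormFac9.Basic
import Mathlib.RingTheory.LocalProperties.IntegrallyClosed
import Mathlib.RingTheory.IntegralClosure.IsIntegralClosure.Basic

/-!
# Recognition of the normalization
-/

set_option autoImplicit false
set_option backward.isDefEq.respectTransparency false

universe u

open CategoryTheory CategoryTheory.Limits AlgebraicGeometry TopologicalSpace

namespace GrothLib.UnrMono

open GrothLib.NormFib

variable {X : Scheme.{u}} [IsIntegral X]
  [QuasiCompact (X.fromSpecStalk (genericPoint X))] [QuasiSeparated (X.fromSpecStalk (genericPoint X))]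

local notation "η" => genericPoint X

/-- The point of the generic stalk. -/
noncomputable abbrev pt : Spec (X.presheaf.stalk η) :=
  IsLocalRing.closedPoint (X.presheaf.stalk η)

/-- The morphism from the generic point into the normalization. -/
noncomputable abbrev toN : Spec (X.presheaf.stalk η) ⟶ Curv2.normalization X :=
  (X.fromSpecStalk η).toNormalization

theorem normalizationι_toNormalization :
    (toN (X := X)) ≫ Curv2.normalizationι X = X.fromSpecStalk η :=
  Scheme.Hom.toNormalization_fromNormalization _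

theorem eq_pt (z : Spec (X.presheaf.stalk η)) : z = pt := by
  letI : Field (X.presheaf.stalk η) := inferInstanceAs (Field X.functionField)
  exact Subsingleton.elim (α := PrimeSpectrum (X.presheaf.stalk η)) z pt

theorem toNormalization_pt :
    toN (X := X) pt = genericPoint (Curv2.normalization X) := by
  refine IsGenericPoint.eq (?_ : IsGenericPoint _ ⊤) (genericPoint_spec (Curv2.normalization X))
  have hd : closure (Set.range (toN (X := X))) = Set.univ :=
    (X.fromSpecStalk η).toNormalization.denseRange.closure_range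
  have hr : Set.range (toN (X := X)) = {toN (X := X) pt} :=
    Set.ext fun z => ⟨fun ⟨w, hw⟩ => by rw [← hw, eq_pt w]; rfl, fun h => ⟨pt, h.symm⟩⟩
  rw [hr] at hd
  exact hd

theorem normalizationι_genericPoint :
    Curv2.normalizationι X (genericPoint (Curv2.normalization X)) = η := by
  rw [← toNormalization_pt, ← Scheme.Hom.comp_apply, normalizationι_toNormalization]
  exact Scheme.fromSpecStalk_closedPoint

theorem preimage_genericPoint :
    (Curv2.normalizationι X).base ⁻¹' {η} = {genericPoint (Curv2.normalization X)} := by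
  refine Set.Subset.antisymm (fun z hz => ?_) (fun z hz => by
    rw [Set.mem_singleton_iff.1 hz]; exact normalizationι_genericPoint)
  obtain ⟨_, ⟨U, hU, rfl⟩, hxU, -⟩ :=
    X.isBasis_affineOpens.exists_subset_of_mem_open (Set.mem_univ η) isOpen_univ
  have hU : IsAffineOpen U := hU
  haveI : Nonempty U := ⟨⟨_, hxU⟩⟩
  obtain ⟨P, hP, hinj, hprime, hcomap, -⟩ := primes_over hU η hxU
  letI := chartAlgebra (X := X) U
  obtain ⟨_, htow, hic⟩ := exists_chart hU
  haveI := (isIntegrallyClosed_chart hU).1
  haveI : Algebra.IsIntegral Γ(X, U) Γ(Curv2.normalization X, pre U) :=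
    IsIntegralClosure.isIntegral_algebra Γ(X, U) X.functionField
  have hbot : ∀ w : {z : Curv2.normalization X // Curv2.normalizationι X z = η}, P w = ⊥ := fun w => by
    haveI := hprime w
    refine Ideal.eq_bot_of_comap_eq_bot (R := Γ(X, U)) ?_
    rw [hcomap w]
    exact congrArg PrimeSpectrum.asIdeal (((hU.primeIdealOf_genericPoint).trans (genericPoint_eq_bot_of_affine _)))
  have := hinj ((hbot ⟨z, hz⟩).trans (hbot ⟨_, normalizationι_genericPoint⟩).symm)
  exact congrArg Subtype.val this

theorem isIso_of_stalkMap_surjective {Y : Scheme.{u}} (f : Y ⟶ X) [IsIntegral Y] {y : Y}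
    (hy : y = genericPoint Y) (hfy : f y = η)
    (hs : Function.Surjective (f.stalkMap y)) : IsIso (f.stalkMap (genericPoint Y)) := by
  subst hy
  have hF : IsField (X.presheaf.stalk (f (genericPoint Y))) := by
    rw [hfy]; exact Field.toIsField X.functionField
  letI := hF.toField
  exact (ConcreteCategory.isIso_iff_bijective _).mpr ⟨RingHom.injective (f.stalkMap (genericPoint Y)).hom, hs⟩

theorem isIso_stalkMap_normalizationι :
    IsIso ((Curv2.normalizationι X).stalkMap (genericPoint (Curv2.normalization X))) := by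
  refine isIso_of_stalkMap_surjective (Curv2.normalizationι X)
    (y := toN (X := X) pt) toNormalization_pt
    (by rw [toNormalization_pt]; exact normalizationι_genericPoint) fun b => ?_
  have hF : IsField ((Curv2.normalization X).presheaf.stalk (toN (X := X) pt)) := by
    rw [toNormalization_pt]; exact Field.toIsField (Curv2.normalization X).functionField
  letI := hF.toField
  have hs : Function.Surjective (((toN (X := X)) ≫ Curv2.normalizationι X).stalkMap pt) := by
    rw [Scheme.Hom.stalkMap_congr_hom _ _ normalizationι_toNormalization pt]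
    intro c
    obtain ⟨a, ha⟩ := (X.fromSpecStalk η).stalkMap_surjective pt c
    obtain ⟨b', hb'⟩ := (ConcreteCategory.bijective_of_isIso (X.presheaf.stalkCongr (.of_eq (by
      rw [← Scheme.Hom.comp_apply, normalizationι_toNormalization] :
      Curv2.normalizationι X (toN (X := X) pt) = X.fromSpecStalk η pt))).hom).2 a
    refine ⟨b', ?_⟩
    rw [CommRingCat.comp_apply]
    exact (congrArg _ hb').trans ha
  rw [Scheme.Hom.stalkMap_comp] at hs
  obtain ⟨a, ha⟩ := hs ((toN (X := X)).stalkMap pt b)
  exact ⟨a, RingHom.injective ((toN (X := X)).stalkMap pt).hom ha⟩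

theorem maximal_maps_to {Y : Scheme.{u}} [IrreducibleSpace Y] (f : Y ⟶ X)
    (hf : f (genericPoint Y) = η) :
    ∀ z : Y, closure {z} ∈ irreducibleComponents Y → f z = η := by
  intro z hz
  rw [irreducibleComponents_eq_singleton, Set.mem_singleton_iff] at hz
  rw [IsGenericPoint.eq (show IsGenericPoint z (Set.univ : Set Y) from hz) (genericPoint_spec Y)]
  exact hf

/-- Recognition of the normalization. -/
theorem exists_iso_normalization {Y : Scheme.{u}} (f : Y ⟶ X) (hY : Pi1.IsNormalScheme Y)
    (hf : IsIntegralHom f) [IrreducibleSpace Y] (hη : f (genericPoint Y) = η)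
    (hiso : IsIso (f.stalkMap (genericPoint Y))) :
    ∃ e : Y ≅ Curv2.normalization X, e.hom ≫ Curv2.normalizationι X = f := by
  haveI := GrothLib.NormFac9.isReduced_of_isNormal hY
  haveI : IsIntegral Y := isIntegral_of_irreducibleSpace_of_isReduced Y
  obtain ⟨h, hh, -⟩ := GrothLib.NormFac9.existsUnique_fac f hY (maximal_maps_to f hη)
  let g : Spec (X.presheaf.stalk η) ⟶ Y :=
    Spec.map ((inv (f.stalkMap (genericPoint Y))) ≫ (X.presheaf.stalkCongr (.of_eq hη)).hom) ≫
      Y.fromSpecStalk (genericPoint Y)
  have hg : g ≫ f = X.fromSpecStalk η := by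
    simp only [g, Category.assoc, ← Scheme.SpecMap_stalkMap_fromSpecStalk, ← Spec.map_comp_assoc,
      IsIso.hom_inv_id_assoc]
    rw [TopCat.Presheaf.stalkCongr_hom, Scheme.SpecMap_stalkSpecializes_fromSpecStalk]
  let d : Curv2.normalization X ⟶ Y := (X.fromSpecStalk η).normalizationDesc g f hg.symm
  have hdι : d ≫ f = Curv2.normalizationι X :=
    Scheme.Hom.normalizationDesc_comp (f := X.fromSpecStalk η) g f hg.symm
  have hdg : (X.fromSpecStalk η).toNormalization ≫ d = g :=
    Scheme.Hom.toNormalization_normalizationDesc (f := X.fromSpecStalk η) g f hg.symm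
  have hNdom := maximal_maps_to (Curv2.normalizationι X) normalizationι_genericPoint
  have h1 : d ≫ h = 𝟙 _ :=
    GrothLib.NormFac9.hom_ext (Curv2.normalizationι X) isNormalScheme_normalization hNdom (𝟙 _)
      (by rw [Category.assoc, hh, hdι, Category.id_comp]) (by rw [Category.id_comp])
  have hK : Pi1.IsNormalScheme (Spec (X.presheaf.stalk η)) := fun z => by
    letI : Field (X.presheaf.stalk η) := inferInstanceAs (Field X.functionField)
    let e := (Spec.stalkIso (X.presheaf.stalk η) z).commRingCatIsoToRingEquiv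
    exact ⟨e.injective.isDomain, IsIntegrallyClosed.of_equiv e.symm⟩
  have hgh : g ≫ h = (X.fromSpecStalk η).toNormalization :=
    GrothLib.NormFac9.hom_ext (X.fromSpecStalk η) hK
      (fun z _ => by rw [eq_pt z]; exact Scheme.fromSpecStalk_closedPoint) (𝟙 _)
      (by rw [Category.assoc, hh, hg, Category.id_comp])
      (by rw [normalizationι_toNormalization, Category.id_comp])
  haveI : IsDominant g := ⟨by
    refine dense_iff_closure_eq.2 (eq_top_iff.2 ?_)
    rw [← show closure {genericPoint Y} = (⊤ : Set Y) from (genericPoint_spec Y).def]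
    refine closure_mono (Set.singleton_subset_iff.2 ⟨pt, ?_⟩)
    show (Spec.map _ ≫ Y.fromSpecStalk (genericPoint Y)) pt = genericPoint Y
    rw [Scheme.Hom.comp_apply]
    have hsub : ∀ w : Spec (Y.presheaf.stalk (genericPoint Y)),
        Y.fromSpecStalk (genericPoint Y) w = genericPoint Y := fun w => by
      have : Y.fromSpecStalk (genericPoint Y) w ⤳ genericPoint Y :=
        Scheme.range_fromSpecStalk.le ⟨w, rfl⟩
      exact (this.antisymm (genericPoint_specializes _)).eq
    exact hsub _⟩
  have h2 : h ≫ d = 𝟙 Y :=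
    ext_of_isDominant_of_isSeparated f (by rw [Category.assoc, hdι, hh, Category.id_comp]) g
      (by rw [← Category.assoc, hgh, hdg, Category.comp_id])
  exact ⟨⟨h, d, h2, h1⟩, hh⟩

/-- Transport of the three properties along an isomorphism over the base. -/
theorem props_of_iso {Y : Scheme.{u}} (f : Y ⟶ X) (e : Y ≅ Curv2.normalization X)
    (he : e.hom ≫ Curv2.normalizationι X = f) :
    Pi1.IsNormalScheme Y ∧ IsIntegralHom f ∧
      ∃ _ : IrreducibleSpace ↥Y, f.base ⁻¹' {η} = {genericPoint Y} ∧
        IsIso (f.stalkMap (genericPoint Y)) := by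
  subst he
  haveI : IsIntegral Y := IsIntegral.of_isIso e.inv
  refine ⟨fun y => ?_, inferInstance, inferInstance, ?_⟩
  · obtain ⟨h1, h2⟩ := isNormalScheme_normalization (X := X) (e.hom y)
    let r := (asIso (e.hom.stalkMap y)).commRingCatIsoToRingEquiv
    exact ⟨r.symm.injective.isDomain, IsIntegrallyClosed.of_equiv r⟩
  have hgen : e.hom (genericPoint Y) = genericPoint (Curv2.normalization X) :=
    genericPoint_eq_of_isOpenImmersion e.hom
  refine ⟨Set.ext fun y => ?_, ?_⟩
  · rw [Scheme.Hom.comp_base, TopCat.coe_comp, Set.preimage_comp, preimage_genericPoint]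
    show e.hom y = genericPoint (Curv2.normalization X) ↔ y = genericPoint Y
    rw [← hgen]
    exact e.hom.isOpenEmbedding.injective.eq_iff
  · rw [Scheme.Hom.stalkMap_comp]
    haveI : IsIso ((Curv2.normalizationι X).stalkMap (e.hom (genericPoint Y))) := by
      rw [hgen]; exact isIso_stalkMap_normalizationι
    infer_instance

theorem overIso_normalization_iff {Y : Scheme.{u}} (f : Y ⟶ X) :
    (∃ e : Y ≅ Curv2.normalization X, e.hom ≫ Curv2.normalizationι X = f) ↔
      Pi1.IsNormalScheme Y ∧ IsIntegralHom f ∧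
        ∃ _ : IrreducibleSpace ↥Y, f.base ⁻¹' {η} = {genericPoint Y} ∧
          IsIso (f.stalkMap (genericPoint Y)) := by
  refine ⟨fun ⟨e, he⟩ => props_of_iso f e he, fun ⟨hY, hf, _, hη, hiso⟩ => ?_⟩
  exact exists_iso_normalization f hY hf (hη.ge rfl) hiso

theorem isIso_normalizationι_restrict (V : X.Opens) (hne : (V : Set X).Nonempty)
    (hV : ∀ x ∈ V, IsIntegrallyClosed (X.presheaf.stalk x)) :
    ∃ U : X.Opens, (U : Set X).Nonempty ∧ IsIso (Curv2.normalizationι X ∣_ U) := by
  obtain ⟨x, hx⟩ := hne
  obtain ⟨U, hU, hxU, hUV⟩ := exists_isAffineOpen_mem_and_subset hx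
  haveI : Nonempty U := ⟨⟨x, hxU⟩⟩
  refine ⟨U, ⟨x, hxU⟩, (isIso_morphismRestrict_iff_isIso_app _ hU).mpr ?_⟩
  haveI : IsIntegrallyClosed Γ(X, U) := by
    refine IsIntegrallyClosed.of_localization_maximal fun p _ _ => ?_
    let z := hU.fromSpec ⟨p, inferInstance⟩
    have hzU : z ∈ U := hU.range_fromSpec.le ⟨⟨p, inferInstance⟩, rfl⟩
    let _ := TopCat.Presheaf.algebra_section_stalk X.presheaf (⟨z, hzU⟩ : U)
    have := hU.isLocalization_stalk' ⟨p, inferInstance⟩ hzU
    haveI := hV z (hUV hzU)
    exact IsIntegrallyClosed.of_equiv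
      (IsLocalization.algEquiv p.primeCompl (X.presheaf.stalk z) (Localization.AtPrime p)).toRingEquiv
  let _ := chartAlgebra (X := X) U
  obtain ⟨_, htow, hic⟩ := exists_chart hU
  haveI := functionField_isFractionRing_of_isAffineOpen X U hU
  have hinj := IsIntegralClosure.algebraMap_injective Γ(Curv2.normalization X, pre U) Γ(X, U) X.functionField
  refine (ConcreteCategory.isIso_iff_bijective _).mpr ⟨fun a b hab => ?_, fun w => ?_⟩
  · refine IsFractionRing.injective Γ(X, U) X.functionField ?_
    rw [IsScalarTower.algebraMap_apply Γ(X, U) Γ(Curv2.normalization X, pre U) X.functionField a,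
      IsScalarTower.algebraMap_apply Γ(X, U) Γ(Curv2.normalization X, pre U) X.functionField b]
    exact congrArg _ hab
  · obtain ⟨a, ha⟩ := IsIntegrallyClosed.isIntegral_iff.1
      ((IsIntegralClosure.isIntegral Γ(X, U) X.functionField w).map
        (IsScalarTower.toAlgHom Γ(X, U) _ X.functionField))
    refine ⟨a, hinj ?_⟩
    exact (IsScalarTower.algebraMap_apply Γ(X, U) Γ(Curv2.normalization X, pre U) X.functionField a).symm.trans ha

theorem overIso_normalization_iff_isIso_over_dense
    (hV : ∃ V : X.Opens, (V : Set X).Nonempty ∧ ∀ x ∈ V, IsIntegrallyClosed (X.presheaf.stalk x))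
    {Y : Scheme.{u}} (f : Y ⟶ X) :
    (∃ e : Y ≅ Curv2.normalization X, e.hom ≫ Curv2.normalizationι X = f) ↔
      Pi1.IsNormalScheme Y ∧ IsIntegralHom f ∧
        ∃ U : X.Opens, Dense (U : Set ↥X) ∧ Dense ((f ⁻¹ᵁ U : Y.Opens) : Set ↥Y) ∧ IsIso (f ∣_ U) := by
  constructor
  · rintro ⟨e, he⟩
    obtain ⟨h1, h2, hirr, hfib, -⟩ := props_of_iso f e he
    obtain ⟨V, hne, hV⟩ := hV
    obtain ⟨U, hUne, hU⟩ := isIso_normalizationι_restrict V hne hV
    refine ⟨h1, h2, U, U.2.dense hUne, (f ⁻¹ᵁ U).2.dense ⟨genericPoint Y, ?_⟩, ?_⟩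
    · show f (genericPoint Y) ∈ U
      rw [show f (genericPoint Y) = η from hfib.ge rfl]
      exact ((genericPoint_spec X).mem_open_set_iff U.2).2 (by simpa using hUne)
    · subst he
      rw [morphismRestrict_comp]
      infer_instance
  · rintro ⟨hY, hf, U, hU, hfU, hiso⟩
    have hUne : (U : Set X).Nonempty := hU.nonempty
    have hηU : η ∈ U := ((genericPoint_spec X).mem_open_set_iff U.2).2 (by simpa using hUne)
    haveI : Nonempty U := ⟨⟨_, hηU⟩⟩
    haveI : IsIntegral (f ⁻¹ᵁ U : Y.Opens).toScheme := IsIntegral.of_isIso (inv (f ∣_ U))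
    have hirrU : IsIrreducible ((f ⁻¹ᵁ U : Y.Opens) : Set Y) := by
      rw [← (f ⁻¹ᵁ U).range_ι]
      rw [← Set.image_univ]
      exact (IrreducibleSpace.isIrreducible_univ _).image _ (f ⁻¹ᵁ U).ι.continuous.continuousOn
    haveI : IrreducibleSpace Y := (irreducibleSpace_def Y).2 (by
      show IsIrreducible (Set.univ : Set Y)
      rw [← hfU.closure_eq]; exact hirrU.closure)
    haveI := GrothLib.NormFac9.isReduced_of_isNormal hY
    haveI : IsIntegral Y := isIntegral_of_irreducibleSpace_of_isReduced Y
    have hgU : genericPoint Y ∈ f ⁻¹ᵁ U :=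
      ((genericPoint_spec Y).mem_open_set_iff (f ⁻¹ᵁ U).2).2 (by simpa using hfU.nonempty)
    have hfg : f (genericPoint Y) = η := by
      have h := genericPoint_eq_of_isOpenImmersion (f ∣_ U ≫ U.ι)
      rw [morphismRestrict_ι, Scheme.Hom.comp_apply] at h
      rwa [genericPoint_eq_of_isOpenImmersion (f ⁻¹ᵁ U).ι] at h
    refine exists_iso_normalization f hY hf hfg ?_
    exact (((MorphismProperty.isomorphisms CommRingCat).arrow_mk_iso_iff
      (morphismRestrictStalkMap f U ⟨genericPoint Y, hgU⟩)).1
        (inferInstanceAs (IsIso ((f ∣_ U).stalkMap ⟨genericPoint Y, hgU⟩))))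

end GrothLib.UnrMono
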