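import Groth.Agent.Lib.NormalSmooth.Basic
import Mathlib

/-!
# Étale integral closures in composita
-/

universe u

namespace GrothLib.UnrMono

open TensorProduct

theorem isIntegrallyClosed_of_normal_atPrime {D : Type u} [CommRing D] [IsDomain D]
    (h : ∀ (q : Ideal D) [q.IsPrime], IsIntegrallyClosed (Localization.AtPrime q)) :
    IsIntegrallyClosed D :=
  IsIntegrallyClosed.of_localization_maximal fun p _ _ => h p

theorem normal_atPrime_of_domain {A : Type u} [CommRing A] [IsDomain A] [IsIntegrallyClosed A]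
    (p : Ideal A) [p.IsPrime] :
    IsDomain (Localization.AtPrime p) ∧ IsIntegrallyClosed (Localization.AtPrime p) :=
  ⟨IsLocalization.isDomain_localization (Ideal.primeCompl_le_nonZeroDivisors p),
    isIntegrallyClosed_of_isLocalization _ p.primeCompl (Ideal.primeCompl_le_nonZeroDivisors p)⟩

/-- The image of a finite étale algebra over a normal domain in a field is étale and normal. -/
theorem etale_range {A' T L₁ : Type u} [CommRing A'] [IsDomain A'] [IsIntegrallyClosed A']
    [CommRing T] [Algebra A' T] [Algebra.Etale A' T] [Module.Finite A' T] [Field L₁] [Algebra A' L₁]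
    (hinj : Function.Injective (algebraMap A' L₁)) (ψ : T →ₐ[A'] L₁) :
    Algebra.Etale A' ψ.range ∧ IsIntegrallyClosed ψ.range := by
  classical
  have hT := GrothLib.NormalSmooth.isNormalRing_of_smooth A' T fun p _ => normal_atPrime_of_domain p
  let P : Ideal T := RingHom.ker ψ.toRingHom
  haveI : P.IsPrime := RingHom.ker_isPrime ψ.toRingHom
  have hP0 : P.comap (algebraMap A' T) = ⊥ := le_bot_iff.1 fun a ha => by
    have h1 : ψ (algebraMap A' T a) = 0 := ha
    rw [ψ.commutes] at h1
    exact hinj (h1.trans (map_zero _).symm)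
  haveI : IsReduced T := by
    refine ⟨fun x hx => ?_⟩
    refine eq_zero_of_localization x fun m hm => ?_
    haveI := (hT m).1
    exact IsNilpotent.eq_zero (hx.map _)
  have hnz : ∀ q ∈ minimalPrimes T, q.comap (algebraMap A' T) = ⊥ := fun q hq => le_bot_iff.1 fun a ha => by
    by_contra h0
    have hreg : algebraMap A' T a ∈ nonZeroDivisors T := by
      rw [mem_nonZeroDivisors_iff_right]
      intro t ht
      have h2 : a • t = 0 := by rw [Algebra.smul_def, mul_comm]; exact ht
      exact (Module.Flat.isSMulRegular_of_nonZeroDivisors (mem_nonZeroDivisors_of_ne_zero (show a ≠ 0 from h0))).right_eq_zero_of_smul h2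
    exact Set.disjoint_iff.1 (Ideal.disjoint_nonZeroDivisors_of_mem_minimalPrimes hq) ⟨ha, hreg⟩
  have hfin : (minimalPrimes T).Finite :=
    (Algebra.QuasiFinite.finite_primesOver (S := T) (⊥ : Ideal A')).subset fun q hq => ⟨hq.1.1, ⟨(hnz q hq).symm⟩⟩
  obtain ⟨P₀, hP₀, hP₀le⟩ := Ideal.exists_minimalPrimes_le (show (⊥ : Ideal T) ≤ P from bot_le)
  have hPmin : P ∈ minimalPrimes T := by
    haveI := hP₀.1.1
    have : P₀ = P := Algebra.QuasiFinite.eq_of_le_of_under_eq (R := A') P₀ P hP₀le
      ((hnz P₀ hP₀).trans hP0.symm)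
    rwa [← this]
  let G := hfin.toFinset.filter fun q => q ≠ P
  let J : Ideal T := G.inf id
  have hcop : P ⊔ J = ⊤ := by
    by_contra hne
    obtain ⟨m, hm, hle⟩ := Ideal.exists_le_maximal _ hne
    obtain ⟨q, hq, hqm⟩ := (Ideal.IsPrime.inf_le' hm.isPrime).1 (le_sup_right.trans hle)
    have hq' := Finset.mem_filter.1 hq
    haveI := (hT m).1
    have hqmin : q ∈ minimalPrimes T := hfin.mem_toFinset.1 hq'.1
    let Z : Ideal T := RingHom.ker (algebraMap T (Localization.AtPrime m))
    haveI : Z.IsPrime := RingHom.ker_isPrime _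
    have hZle : ∀ r : Ideal T, r.IsPrime → r ≤ m → Z ≤ r := fun r hr hrm x hx => by
      obtain ⟨⟨c, hc⟩, hcx⟩ := (IsLocalization.map_eq_zero_iff m.primeCompl _ x).1 hx
      exact (hr.mem_or_mem (show c * x ∈ r from hcx ▸ zero_mem r)).resolve_left fun h => hc (hrm h)
    have h1 : q = Z := le_antisymm (hqmin.2 ⟨‹Z.IsPrime›, bot_le⟩ (hZle q hqmin.1.1 hqm))
      (hZle q hqmin.1.1 hqm)
    have h2 : P = Z := le_antisymm (hPmin.2 ⟨‹Z.IsPrime›, bot_le⟩ (hZle P ‹_› (le_sup_left.trans hle)))
      (hZle P ‹_› (le_sup_left.trans hle))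
    exact hq'.2 (h1.trans h2.symm)
  have hPJ : ∀ x ∈ P, x ∈ J → x = 0 := fun x hxP hxJ => by
    refine IsReduced.eq_zero x (mem_nilradical.1 ?_)
    rw [nilradical_eq_sInf, Ideal.mem_sInf]
    intro r (hr : r.IsPrime)
    obtain ⟨q, hq, hqr⟩ := Ideal.exists_minimalPrimes_le (J := r) (show (⊥ : Ideal T) ≤ r from bot_le)
    refine hqr ?_
    by_cases hqP : q = P
    · rw [hqP]; exact hxP
    · exact (Finset.inf_le (f := id) (Finset.mem_filter.2 ⟨hfin.mem_toFinset.2 hq, hqP⟩)) hxJ
  obtain ⟨e, he, j, hj, hej⟩ := Submodule.mem_sup.1 (show (1 : T) ∈ P ⊔ J by rw [hcop]; trivial)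
  have hje : j * e = 0 := hPJ _ (P.mul_mem_left j he) (J.mul_mem_right e hj)
  have hidem : IsIdempotentElem j := by
    show j * j = j
    calc j * j = j * (1 - e) := by rw [← hej, add_sub_cancel_left]
      _ = j := by rw [mul_sub, mul_one, hje, sub_zero]
  have hspan : P = Ideal.span {1 - j} := by
    rw [show 1 - j = e by rw [← hej, add_sub_cancel_right]]
    refine le_antisymm (fun x hx => ?_) ((Ideal.span_singleton_le_iff_mem P).2 he)
    have hxj : x * j = 0 := hPJ _ (P.mul_mem_right j hx) (J.mul_mem_left x hj)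
    refine Ideal.mem_span_singleton'.2 ⟨x, ?_⟩
    calc x * e = x * (e + j) - x * j := by ring
      _ = x := by rw [hej, mul_one, hxj, sub_zero]
  letI : Algebra T ψ.range := ψ.rangeRestrict.toRingHom.toAlgebra
  haveI : IsScalarTower A' T ψ.range := IsScalarTower.of_algebraMap_eq fun a => (ψ.rangeRestrict.commutes a).symm
  haveI : IsLocalization.Away j ψ.range := by
    refine IsLocalization.away_of_isIdempotentElem hidem ?_ ψ.rangeRestrict_surjective
    rw [← hspan]
    ext x
    exact Subtype.ext_iff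
  haveI : Algebra.Etale T ψ.range := Algebra.Etale.of_isLocalizationAway j
  haveI het : Algebra.Etale A' ψ.range := Algebra.Etale.comp A' T ψ.range
  exact ⟨het, isIntegrallyClosed_of_normal_atPrime fun q _ =>
    (GrothLib.NormalSmooth.isNormalRing_of_smooth A' ψ.range (fun p _ => normal_atPrime_of_domain p) q).2⟩

theorem integralClosure_compositum (A A' L L₁ : Type u) [CommRing A] [IsDomain A]
    [CommRing A'] [IsDomain A'] [IsIntegrallyClosed A'] [Algebra A A']
    [Field L] [Algebra A L] [Algebra.IsAlgebraic A L] (hinj : Function.Injective (algebraMap A L))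
    [Algebra.Etale A ↥(integralClosure A L)]
    [Field L₁] [Algebra A' L₁] [Algebra L L₁] [Algebra A L₁] [IsScalarTower A A' L₁] [IsScalarTower A L L₁]
    (hinj' : Function.Injective (algebraMap A' L₁))
    (hgen : Subfield.closure (Set.range (algebraMap A' L₁) ∪ Set.range (algebraMap L L₁)) = ⊤) :
    Algebra.Etale A' ↥(integralClosure A' L₁) ∧
      integralClosure A' L₁ = Algebra.adjoin A' ((algebraMap L L₁) '' {x : L | IsIntegral A x}) := by
  haveI : Algebra.IsIntegral A (integralClosure A L) := inferInstance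
  haveI : Module.Finite A (integralClosure A L) := Algebra.IsIntegral.finite
  let C := integralClosure A L
  let ι : C →ₐ[A] L₁ := (IsScalarTower.toAlgHom A L L₁).comp C.val
  let ψ : A' ⊗[A] C →ₐ[A'] L₁ := Algebra.TensorProduct.lift (Algebra.ofId A' L₁) ι fun _ _ => mul_comm _ _
  have hψ : ψ.range = Algebra.adjoin A' ((algebraMap L L₁) '' {x : L | IsIntegral A x}) := by
    refine le_antisymm ?_ (Algebra.adjoin_le ?_)
    · rintro _ ⟨t, rfl⟩
      induction t using TensorProduct.induction_on with
      | zero => rw [map_zero]; exact zero_mem _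
      | add a b ha hb => rw [map_add]; exact add_mem ha hb
      | tmul a c =>
        show ψ (a ⊗ₜ c) ∈ _
        rw [Algebra.TensorProduct.lift_tmul]
        exact mul_mem (Subalgebra.algebraMap_mem _ a) (Algebra.subset_adjoin ⟨c.1, c.2, rfl⟩)
    · rintro _ ⟨x, hx, rfl⟩
      refine ⟨(1 : A') ⊗ₜ (⟨x, hx⟩ : C), ?_⟩
      show ψ _ = _
      rw [Algebra.TensorProduct.lift_tmul, map_one, one_mul]
      rfl
  obtain ⟨het, hic⟩ := etale_range hinj' ψ
  haveI : IsFractionRing C L := integralClosure.isFractionRing_of_algebraic fun x hx =>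
    hinj (hx.trans (map_zero _).symm)
  have hDinj : Function.Injective (algebraMap ψ.range L₁) := Subtype.val_injective
  let F : FractionRing ψ.range →+* L₁ := IsFractionRing.lift hDinj
  have hFtop : F.fieldRange = ⊤ := by
    rw [← top_le_iff, ← hgen, Subfield.closure_le]
    rintro z (⟨a, rfl⟩ | ⟨l, rfl⟩)
    · exact ⟨algebraMap ψ.range _ (algebraMap A' ψ.range a), IsFractionRing.lift_algebraMap hDinj _⟩
    · obtain ⟨c, d, hd, rfl⟩ := IsFractionRing.div_surjective (A := C) l
      have hm : ∀ c : C, algebraMap L L₁ (algebraMap C L c) ∈ F.fieldRange := fun c => by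
        refine ⟨algebraMap ψ.range _ ⟨ψ ((1 : A') ⊗ₜ c), ⟨_, rfl⟩⟩, ?_⟩
        refine (IsFractionRing.lift_algebraMap hDinj _).trans ?_
        show ψ ((1 : A') ⊗ₜ c) = _
        rw [Algebra.TensorProduct.lift_tmul, map_one, one_mul]
        rfl
      rw [map_div₀]
      exact div_mem (hm c) (hm d)
  haveI : IsFractionRing ψ.range L₁ := by
    refine IsFractionRing.of_field _ L₁ fun z => ?_
    obtain ⟨w, rfl⟩ : z ∈ F.fieldRange := hFtop ▸ trivial
    obtain ⟨a, b, -, rfl⟩ := IsFractionRing.div_surjective (A := ψ.range) w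
    exact ⟨a, b, by rw [map_div₀, IsFractionRing.lift_algebraMap, IsFractionRing.lift_algebraMap]⟩
  haveI : IsIntegrallyClosed ψ.range := hic
  have heq : integralClosure A' L₁ = ψ.range := by
    refine le_antisymm (fun z hz => ?_) ?_
    · obtain ⟨d, rfl⟩ := IsIntegrallyClosed.isIntegral_iff.1 ((hz : IsIntegral A' z).tower_top (A := ψ.range))
      exact d.2
    · rintro _ ⟨t, rfl⟩
      exact (Algebra.IsIntegral.isIntegral (R := A') t).map ψ
  rw [heq]
  exact ⟨het, hψ⟩

end GrothLib.UnrMono
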