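import Groth.Agent.Lib.UnrMono.FieldDim
import Groth.Agent.Lib.LocalDimAlg.Basic
import Groth.Agent.Lib.Dim.Ring
import Groth.Agent.Lib.SepField.Smooth
import Mathlib

/-!
# Germs adapted to a regular point with separable residue field
-/

universe u

namespace GrothLib.UnrMono

variable (k A : Type u) [Field k] [CommRing A] [Algebra k A] [Algebra.FiniteType k A]

theorem essFiniteType_residueField (p : Ideal A) [p.IsPrime] :
    Algebra.EssFiniteType k p.ResidueField := by
  haveI : Algebra.EssFiniteType k (Localization.AtPrime p) := Algebra.EssFiniteType.comp k A _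
  haveI : Algebra.FiniteType (Localization.AtPrime p) p.ResidueField :=
    Algebra.FiniteType.of_surjective (Algebra.ofId (Localization.AtPrime p) _)
      IsLocalRing.residue_surjective
  exact Algebra.EssFiniteType.comp k (Localization.AtPrime p) _

theorem trdeg_residueField {n r : ℕ} (p : Ideal A) [p.IsPrime]
    (hn : FlatMor.localDim (PrimeSpectrum A) ⟨p, inferInstance⟩ = (n : WithBot ℕ∞))
    (hr : ringKrullDim (Localization.AtPrime p) = (r : WithBot ℕ∞)) :
    r ≤ n ∧ Algebra.trdeg k p.ResidueField = ((n - r : ℕ) : Cardinal) := by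
  obtain ⟨d, hd, hd'⟩ := GrothLib.Dim.exists_nat_trdeg_eq_and_ringKrullDim_eq k (A ⧸ p)
  have : Algebra.IsAlgebraic (A ⧸ p) p.ResidueField :=
    IsLocalization.isAlgebraic _ (nonZeroDivisors (A ⧸ p))
  have h2 := trdeg_add_eq k (A ⧸ p) (A := p.ResidueField)
  rw [hd, trdeg_eq_zero (R := A ⧸ p) (A := p.ResidueField), add_zero] at h2
  rw [GrothLib.LocalDimAlg.localDim_eq k p, hd', ← IsLocalization.AtPrime.ringKrullDim_eq_height p
    (Localization.AtPrime p), hr] at hn
  have h3 : r + d = n := by exact_mod_cast hn
  refine ⟨by omega, ?_⟩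
  rw [← h2, show n - r = d by omega]

theorem regular_and_separable_iff (n r : ℕ) (p : Ideal A) [p.IsPrime]
    (hn : FlatMor.localDim (PrimeSpectrum A) ⟨p, inferInstance⟩ = (n : WithBot ℕ∞))
    (hr : ringKrullDim (Localization.AtPrime p) = (r : WithBot ℕ∞)) :
    (IsRegularLocalRing (Localization.AtPrime p) ∧ Algebra.IsGeometricallyReduced k p.ResidueField) ↔
      ∃ g : Fin n → Localization.AtPrime p,
        Ideal.span (g '' {i : Fin n | (i : ℕ) < r}) = IsLocalRing.maximalIdeal (Localization.AtPrime p) ∧
          Submodule.span p.ResidueField ((fun i : Fin n =>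
            KaehlerDifferential.D k p.ResidueField (IsLocalRing.residue (Localization.AtPrime p) (g i))) ''
              {i : Fin n | r ≤ (i : ℕ)}) = ⊤ := by
  classical
  let L := Localization.AtPrime p
  haveI := essFiniteType_residueField k A p
  haveI : IsNoetherianRing A := Algebra.FiniteType.isNoetherianRing k A
  haveI : IsNoetherianRing L := IsLocalization.isNoetherianRing p.primeCompl L inferInstance
  obtain ⟨hrn, htd⟩ := trdeg_residueField k A p hn hr
  constructor
  · rintro ⟨hreg, hsep⟩
    haveI := (GrothLib.SepField.formallySmooth_iff_isGeometricallyReduced (k := k)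
      (K := p.ResidueField)).2 hsep
    have hd : Module.finrank p.ResidueField Ω[p.ResidueField⁄k] = n - r := by
      exact_mod_cast (finrank_kaehler_eq_trdeg k p.ResidueField).trans htd
    obtain ⟨t, ht⟩ := exists_D_basis k p.ResidueField
    obtain ⟨s, hs, hss⟩ := Submodule.FG.exists_span_finset_card_eq_spanFinrank
      (IsNoetherian.noetherian (IsLocalRing.maximalIdeal L))
    have hsr : s.card = r := by
      have h1 := (isRegularLocalRing_iff L).1 hreg
      rw [← hs, hr] at h1
      exact_mod_cast h1
    choose x hx using fun j => IsLocalRing.residue_surjective (R := L) (t j)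
    let g : Fin n → L := fun i =>
      if h : (i : ℕ) < r then (s.equivFinOfCardEq hsr).symm ⟨i, h⟩
      else x ⟨(i : ℕ) - r, by rw [hd]; omega⟩
    refine ⟨g, ?_, ?_⟩
    · rw [← hss]
      refine congrArg (Submodule.span L) (Set.ext fun y => ⟨?_, fun hy => ?_⟩)
      · rintro ⟨i, hi, rfl⟩
        simp only [g, dif_pos (show (i : ℕ) < r from hi)]
        exact Subtype.mem _
      · let j := s.equivFinOfCardEq hsr ⟨y, hy⟩
        refine ⟨⟨j, lt_of_lt_of_le j.2 hrn⟩, j.2, ?_⟩
        simp only [g, dif_pos j.2, Fin.eta, j, Equiv.symm_apply_apply]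
    · rw [eq_top_iff, ← ht, Submodule.span_le]
      rintro _ ⟨j, rfl⟩
      refine Submodule.subset_span ⟨⟨r + j, by have := j.2; omega⟩, Nat.le_add_right _ _, ?_⟩
      simp only [g, dif_neg (show ¬ r + (j : ℕ) < r by omega), Nat.add_sub_cancel_left, Fin.eta]
      exact congrArg _ (hx j)
  · rintro ⟨g, hm, hres⟩
    let S₁ := Finset.univ.filter fun i : Fin n => (i : ℕ) < r
    let S₂ := Finset.univ.filter fun i : Fin n => r ≤ (i : ℕ)
    have hS₁ : S₁.card = r := by
      rw [show S₁ = (Finset.univ : Finset (Fin r)).map (Fin.castLEEmb hrn) from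
        Finset.ext fun i => ⟨fun hi => Finset.mem_map.2 ⟨⟨i, (Finset.mem_filter.1 hi).2⟩,
            Finset.mem_univ _, rfl⟩,
          fun hi => by
            obtain ⟨j, -, rfl⟩ := Finset.mem_map.1 hi
            exact Finset.mem_filter.2 ⟨Finset.mem_univ _, j.2⟩⟩]
      simp
    have hS₂ : S₂.card = n - r := by
      have h := Finset.card_filter_add_card_filter_not (s := (Finset.univ : Finset (Fin n)))
        (fun i : Fin n => (i : ℕ) < r)
      simp only [not_lt, Finset.card_univ, Fintype.card_fin] at h
      show (Finset.univ.filter fun i : Fin n => r ≤ (i : ℕ)).card = n - r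
      rw [show (Finset.univ.filter fun i : Fin n => (i : ℕ) < r).card = r from hS₁] at h
      omega
    have himg₁ : g '' {i : Fin n | (i : ℕ) < r} = ((S₁.image g : Finset L) : Set L) := by
      ext y; simp [S₁]
    refine ⟨?_, ?_⟩
    · refine IsRegularLocalRing.of_spanFinrank_maximalIdeal_le _ ?_
      rw [hr, ← hm, himg₁]
      have h := (Submodule.spanFinrank_span_le_ncard_of_finite (R := L)
        (S₁.image g).finite_toSet).trans ((Set.ncard_coe_finset _).le.trans
          (Finset.card_image_le.trans hS₁.le))
      exact_mod_cast h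
    · refine (GrothLib.SepField.formallySmooth_iff_isGeometricallyReduced (k := k)
        (K := p.ResidueField)).1 (formallySmooth_of_finrank_le k p.ResidueField ?_)
      rw [htd]
      let v : Fin n → Ω[p.ResidueField⁄k] := fun i =>
        KaehlerDifferential.D k p.ResidueField (IsLocalRing.residue L (g i))
      have himg₂ : v '' {i : Fin n | r ≤ (i : ℕ)} = ((S₂.image v : Finset _) : Set _) := by
        ext y; simp [S₂]
      have h : Module.finrank p.ResidueField Ω[p.ResidueField⁄k] ≤ n - r := by
        rw [← finrank_top, ← hres]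
        change Module.finrank p.ResidueField ↥(Submodule.span p.ResidueField (v '' _)) ≤ _
        rw [himg₂]
        exact (finrank_span_finset_le_card _).trans (Finset.card_image_le.trans hS₂.le)
      exact_mod_cast h

end GrothLib.UnrMono
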