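import Groth.Agent.Lib.EtaleCount.Basic
import Mathlib

/-! # Semicontinuity of the geometric point count -/

universe u

open CategoryTheory CategoryTheory.Limits AlgebraicGeometry Topology

noncomputable section

set_option linter.style.haveILetI false

namespace GrothLib.CardFibre

open GrothLib.EtaleCount

variable {X Y : Scheme.{u}}

theorem nonempty_geomFiber_iff (f : X ⟶ Y) (y : Y) :
    Nonempty ↥(MoreMor.geomFiber f y) ↔ y ∈ Set.range f := by
  constructor
  · rintro ⟨a⟩
    let b := pullback.fst (f.fiberToSpecResidueField y) _ a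
    refine ⟨f.fiberι y b, ?_⟩
    have hb : f.fiberι y b ∈ Set.range (f.fiberι y) := ⟨b, rfl⟩
    rw [Scheme.Hom.range_fiberι] at hb
    exact hb
  · rintro ⟨x, rfl⟩
    obtain ⟨a, ha⟩ : ∃ a : f.fiber (f x), True := ⟨f.asFiber x, trivial⟩
    obtain ⟨b, -⟩ := (pullback.fst (f.fiberToSpecResidueField (f x))
      (Spec.map (CommRingCat.ofHom (algebraMap (Y.residueField (f x)) (SeparableClosure (Y.residueField (f x))))))).surjective a
    exact ⟨b⟩

/-- Removing the diagonal removes one geometric point. -/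
theorem card_offDiag (f : X ⟶ Y) [Etale f] [IsSeparated f] [LocallyOfFiniteType f] [QuasiCompact f]
    (U : (pullback f f).Opens) (hU : (U : Set ↥(pullback f f)) = (Set.range (pullback.diagonal f))ᶜ) (x : X) :
    ENat.card ↥(MoreMor.geomFiber (U.ι ≫ pullback.fst f f) x) + 1 = ENat.card ↥(MoreMor.geomFiber f (f x)) := by
  let q := pullback.fst f f
  let Δ := pullback.diagonal f
  haveI : LocallyQuasiFinite f := GrothLib.Weight.locallyQuasiFinite_of_formallyUnramified f
  haveI : Etale q := inferInstance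
  haveI : LocallyQuasiFinite q := GrothLib.Weight.locallyQuasiFinite_of_formallyUnramified _
  haveI : LocallyQuasiFinite (U.ι ≫ q) := GrothLib.Weight.locallyQuasiFinite_of_formallyUnramified _
  have hΔ : Δ ≫ q = 𝟙 X := pullback.diagonal_fst f
  let t := geomPt x
  have hq : ENat.card ↥(pullback q t) = ENat.card ↥(MoreMor.geomFiber f (f x)) := by
    rw [← card_geomFiber q t, ← (GrothLib.Weight.nGeomIrredComp_eq q _).2,
      (Prod.mk.inj (GeomComp6.count_baseChange f q _ f (IsPullback.of_hasPullback f f).flip _)).2,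
      (GrothLib.Weight.nGeomIrredComp_eq f _).2, pt_geomPt]
  let p := pullback.fst q t
  have hsub : ∀ {W : Scheme.{u}} (i : W ⟶ pullback f f) [IsPreimmersion i],
      ENat.card ↥(pullback (i ≫ q) t) = ENat.card ↥(p ⁻¹' Set.range i) := fun {W} i _ => by
    haveI : IsPreimmersion (pullback.snd i p) := inferInstance
    rw [← ENat.card_congr (pullbackRightPullbackFstIso q t i).hom.homeomorph.toEquiv]
    refine ENat.card_congr ((Equiv.ofInjective _ (pullback.snd i p).isEmbedding.injective).trans ?_)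
    exact Equiv.setCongr (Scheme.Pullback.range_snd i p)
  conv_lhs => rw [← pt_geomPt x, card_geomFiber (U.ι ≫ q) t, hsub U.ι]
  haveI : IsOpenImmersion Δ := inferInstance
  have h1 : ENat.card ↥(p ⁻¹' Set.range Δ) = 1 := by
    rw [← hsub Δ]
    have : ∀ (r : X ⟶ X) (hr : r = 𝟙 X), ENat.card ↥(pullback r t) = 1 := by
      rintro r rfl
      rw [ENat.card_congr (asIso (pullback.snd (𝟙 X) t)).hom.homeomorph.toEquiv, ENat.card_eq_one_iff_unique, unique_iff_subsingleton_and_nonempty]
      exact ⟨inferInstanceAs (Subsingleton (PrimeSpectrum (SeparableClosure (X.residueField x)))),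
        inferInstanceAs (Nonempty (PrimeSpectrum (SeparableClosure (X.residueField x))))⟩
    exact this _ hΔ
  rw [← hq, ← h1, Scheme.Opens.range_ι, hU, ← ENat.card_sum]
  classical
  exact ENat.card_congr ((Equiv.sumComm _ _).trans (Equiv.Set.sumCompl (p ⁻¹' Set.range Δ)))

theorem isOpen_lt_card (n : ℕ) : ∀ {X Y : Scheme.{u}} (f : X ⟶ Y) [Etale f] [IsSeparated f]
    [LocallyOfFiniteType f] [QuasiCompact f],
    IsOpen {y : Y | (n : ℕ∞) < ENat.card ↥(MoreMor.geomFiber f y)} := by
  induction n with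
  | zero =>
    intro X Y f _ _ _ _
    have he : {y : Y | ((0 : ℕ) : ℕ∞) < ENat.card ↥(MoreMor.geomFiber f y)} = Set.range f := by
      ext y
      rw [Set.mem_ofPred_eq, Nat.cast_zero, pos_iff_ne_zero, Ne, ENat.card_eq_zero_iff_empty, not_isEmpty_iff,
        nonempty_geomFiber_iff]
    rw [he]
    exact f.isOpenMap.isOpen_range
  | succ n ih =>
    intro X Y f _ _ _ _
    let Δ := pullback.diagonal f
    let U : (pullback f f).Opens :=
      ⟨(Set.range Δ)ᶜ, (IsClosedImmersion.base_closed (f := Δ)).isClosed_range.isOpen_compl⟩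
    haveI : IsOpenImmersion Δ := inferInstance
    haveI : IsClosedImmersion U.ι := IsClosedImmersion.of_isPreimmersion U.ι (by
      rw [Scheme.Opens.range_ι]
      exact Δ.isOpenEmbedding.isOpen_range.isClosed_compl)
    have hU : ∀ x, ENat.card ↥(MoreMor.geomFiber (U.ι ≫ pullback.fst f f) x) + 1 =
        ENat.card ↥(MoreMor.geomFiber f (f x)) := card_offDiag f U rfl
    have key : ∀ m : ℕ∞, ((n + 1 : ℕ) : ℕ∞) < m + 1 ↔ (n : ℕ∞) < m := fun m => by
      rw [Nat.cast_succ]
      exact (ENat.add_lt_add_iff_right ENat.one_ne_top)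
    have he : {y : Y | ((n + 1 : ℕ) : ℕ∞) < ENat.card ↥(MoreMor.geomFiber f y)} =
        f '' {x : X | (n : ℕ∞) < ENat.card ↥(MoreMor.geomFiber (U.ι ≫ pullback.fst f f) x)} := by
      ext y
      constructor
      · intro hy
        obtain ⟨x, rfl⟩ := (nonempty_geomFiber_iff f y).1 (by
          by_contra hne
          rw [not_nonempty_iff] at hne
          rw [Set.mem_ofPred_eq, ENat.card_eq_zero_iff_empty _ |>.2 hne] at hy
          exact not_lt_zero hy)
        refine ⟨x, ?_, rfl⟩
        rw [Set.mem_ofPred_eq, ← hU x, key] at hy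
        exact hy
      · rintro ⟨x, hx, rfl⟩
        rw [Set.mem_ofPred_eq, ← hU x, key]
        exact hx
    rw [he]
    exact f.isOpenMap _ (ih (U.ι ≫ pullback.fst f f))

theorem lowerSemicontinuous_card (f : X ⟶ Y) [Etale f] [IsSeparated f]
    [LocallyOfFiniteType f] [QuasiCompact f] :
    LowerSemicontinuous (fun y : Y => ENat.card ↥(MoreMor.geomFiber f y)) := by
  rw [lowerSemicontinuous_iff_isOpen_preimage]
  intro a
  induction a using ENat.recTopCoe with
  | top => simp
  | coe n => exact isOpen_lt_card n f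

theorem locally_constant_iff (f : X ⟶ Y) [Etale f] [IsSeparated f]
    [LocallyOfFiniteType f] [QuasiCompact f] (y : Y) :
    (∃ U : Y.Opens, y ∈ U ∧ ∀ y' : Y, y' ∈ U → ENat.card ↥(MoreMor.geomFiber f y') = ENat.card ↥(MoreMor.geomFiber f y)) ↔
      ∃ U : Y.Opens, y ∈ U ∧ IsFinite (f ∣_ U) := by
  haveI : LocallyQuasiFinite f := GrothLib.Weight.locallyQuasiFinite_of_formallyUnramified f
  have hres : ∀ (U : Y.Opens) (u : U.toScheme),
      ENat.card ↥(MoreMor.geomFiber (f ∣_ U) u) = ENat.card ↥(MoreMor.geomFiber f (U.ι u)) := fun U u => by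
    haveI : LocallyQuasiFinite (f ∣_ U) := inferInstance
    rw [← (GrothLib.Weight.nGeomIrredComp_eq (f ∣_ U) u).2,
      (Prod.mk.inj (GeomComp6.count_baseChange f (f ∣_ U) _ U.ι (isPullback_morphismRestrict f U).flip u)).2,
      (GrothLib.Weight.nGeomIrredComp_eq f _).2]
  constructor
  · rintro ⟨U, hy, hc⟩
    obtain ⟨n, hn⟩ : ∃ n : ℕ, ENat.card ↥(MoreMor.geomFiber f y) = n := by
      refine ENat.ne_top_iff_exists.1 (fun h => ?_) |>.imp fun n h => h.symm
      rw [← pt_geomPt y, card_geomFiber f] at h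
      haveI : LocallyQuasiFinite (pullback.snd f (geomPt y)) := inferInstance
      haveI : QuasiCompact (pullback.snd f (geomPt y)) := inferInstance
      haveI : Finite ↥(pullback f (geomPt y)) := by
        have := (pullback.snd f (geomPt y)).finite_preimage (Set.finite_univ (α := ↥(Spec (CommRingCat.of (SeparableClosure (Y.residueField y))))))
        rw [Set.preimage_univ] at this
        exact Set.finite_univ_iff.1 this
      exact (ENat.card_lt_top_of_finite).ne h
    refine ⟨U, hy, EtaleCount.isFinite_of_card_eq n (f ∣_ U) fun u => ?_⟩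
    rw [hres]; exact (hc _ u.2).trans hn
  · rintro ⟨U, hy, hf⟩
    let g := f ∣_ U
    have hcount : ∀ u : U.toScheme, ENat.card ↥(MoreMor.geomFiber f (U.ι u)) = g.finrank u := fun u => by
      rw [← hres, card_geomFiber_eq_finrank]
    let y₀ : U.toScheme := ⟨y, hy⟩
    have hlc : IsLocallyConstant g.finrank := g.isLocallyConstant_finrank
    obtain ⟨W, hWo, hyW, hW⟩ := hlc.exists_open y₀
    refine ⟨U.ι ''ᵁ ⟨W, hWo⟩, ⟨y₀, hyW, rfl⟩, ?_⟩
    rintro _ ⟨u, hu, rfl⟩
    show ENat.card ↥(MoreMor.geomFiber f (U.ι u)) = ENat.card ↥(MoreMor.geomFiber f (U.ι y₀))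
    rw [hcount, hcount, hW u hu]

end GrothLib.CardFibre
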