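import Groth.Agent.Lib.UnrMono.SmoothCriterion
import Mathlib

/-! # In characteristic zero free differentials imply smoothness -/

universe u

namespace GrothLib.UnrMono

open IsLocalRing

variable {k : Type u} [Field k] {L : Type u} [CommRing L] [IsLocalRing L] [Algebra k L]

/-- An element outside `m²` has differential outside `mΩ`. -/
theorem D_notMem_of_notMem_sq [Algebra.FormallySmooth k (ResidueField L)] {x : L}
    (hx : x ∈ maximalIdeal L) (hx2 : x ∉ maximalIdeal L ^ 2) :
    KaehlerDifferential.D k L x ∉ (maximalIdeal L • ⊤ : Submodule L Ω[L⁄k]) := by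
  let m := maximalIdeal L
  let Q := L ⧸ m ^ 2
  let π : Q →ₐ[k] ResidueField L :=
    Ideal.Quotient.liftₐ (m ^ 2) (IsScalarTower.toAlgHom k L (ResidueField L))
      fun a ha => (residue_eq_zero_iff a).2 (Ideal.pow_le_self two_ne_zero ha)
  have hπ : Function.Surjective π := fun y => by
    obtain ⟨a, rfl⟩ := residue_surjective y
    exact ⟨Ideal.Quotient.mk _ a, rfl⟩
  have hker : ∀ q, π q = 0 → q ∈ m.map (Ideal.Quotient.mk (m ^ 2)) := fun q hq => by
    obtain ⟨a, rfl⟩ := Ideal.Quotient.mk_surjective q
    exact Ideal.mem_map_of_mem _ ((residue_eq_zero_iff a).1 hq)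
  have hnil : IsNilpotent (RingHom.ker π.toRingHom) := by
    refine ⟨2, le_bot_iff.1 ((Ideal.pow_right_mono (fun q hq => hker q hq) 2).trans ?_)⟩
    rw [← Ideal.map_pow, Ideal.map_quotient_self]
  let s : ResidueField L →ₐ[k] Q := Algebra.FormallySmooth.liftOfSurjective (AlgHom.id k _) π hπ hnil
  have hs : ∀ y, π (s y) = y := fun y => Algebra.FormallySmooth.liftOfSurjective_apply _ π hπ hnil y
  have hsq : ∀ p q, π p = 0 → π q = 0 → p * q = 0 := fun p q hp hq => by
    have h := Ideal.mul_mem_mul (hker p hp) (hker q hq)
    rwa [← Ideal.map_mul, ← pow_two, Ideal.map_quotient_self] at h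
  let δ : L →ₗ[k] Q :=
    (Ideal.Quotient.mkₐ k (m ^ 2)).toLinearMap -
      (s.comp (IsScalarTower.toAlgHom k L (ResidueField L))).toLinearMap
  have hδ : ∀ a, δ a = Ideal.Quotient.mk (m ^ 2) a - s (residue L a) := fun a => rfl
  have hδ0 : ∀ a, π (δ a) = 0 := fun a => by
    rw [hδ, map_sub, hs]
    exact sub_self _
  let d : Derivation k L Q := Derivation.mk' δ fun a b => by
    have h := hsq _ _ (hδ0 a) (hδ0 b)
    simp only [hδ, map_mul, Algebra.smul_def, Ideal.Quotient.algebraMap_eq] at h ⊢
    linear_combination -h
  intro hmem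
  have h1 : d.liftKaehlerDifferential (KaehlerDifferential.D k L x) = 0 := by
    refine Submodule.smul_induction_on hmem (fun r hr n _ => ?_) fun a b ha hb => by rw [map_add, ha, hb, add_zero]
    rw [map_smul, Algebra.smul_def]
    refine hsq _ _ ((residue_eq_zero_iff r).2 hr) ?_
    have hall : ∀ w, π (d.liftKaehlerDifferential w) = 0 := fun w => by
      have hw : w ∈ Submodule.span L (Set.range (KaehlerDifferential.D k L)) := by
        rw [KaehlerDifferential.span_range_derivation]; trivial
      induction hw using Submodule.span_induction with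
      | mem z hz => obtain ⟨a, rfl⟩ := hz; rw [Derivation.liftKaehlerDifferential_comp_D]; exact hδ0 a
      | zero => rw [map_zero, map_zero]
      | add a b _ _ ha hb => rw [map_add, map_add, ha, hb, add_zero]
      | smul c a _ ha => rw [map_smul, Algebra.smul_def, map_mul, ha, mul_zero]
    exact hall n
  rw [Derivation.liftKaehlerDifferential_comp_D] at h1
  change δ x = 0 at h1
  rw [hδ, (residue_eq_zero_iff x).2 hx, map_zero, sub_zero, Ideal.Quotient.eq_zero_iff_mem] at h1
  exact hx2 h1

/-- An artinian local ring with free differentials in characteristic zero is a field. -/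
theorem maximalIdeal_eq_bot_of_free_kaehler [CharZero k] [IsArtinianRing L]
    [Algebra.FormallySmooth k (ResidueField L)] [Module.Free L Ω[L⁄k]] : maximalIdeal L = ⊥ := by
  by_contra hne
  obtain ⟨x, hx, hx2⟩ : ∃ x ∈ maximalIdeal L, x ∉ maximalIdeal L ^ 2 := by
    by_contra h
    push Not at h
    exact hne (Submodule.eq_bot_of_le_smul_of_le_jacobson_bot (maximalIdeal L) (maximalIdeal L)
      (IsNoetherian.noetherian _) (by rw [smul_eq_mul, ← pow_two]; exact h) (maximalIdeal_le_jacobson _))
  have hnil : IsNilpotent x := by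
    obtain ⟨n, hn⟩ := IsArtinianRing.isNilpotent_jacobson_bot (R := L)
    refine ⟨n, ?_⟩
    have : x ^ n ∈ (Ideal.jacobson (⊥ : Ideal L)) ^ n :=
      Ideal.pow_mem_pow (maximalIdeal_le_jacobson _ hx) n
    rw [hn] at this
    exact this
  have hx0 : x ≠ 0 := fun h => hx2 (h ▸ zero_mem _)
  obtain ⟨r, hr, hr'⟩ : ∃ r, x ^ (r + 1) = 0 ∧ x ^ r ≠ 0 := by
    have hex : ∃ n, x ^ n = 0 := hnil
    classical
    obtain ⟨r, hr⟩ : ∃ r, Nat.find hex = r + 1 := Nat.exists_eq_succ_of_ne_zero fun h => by
      have := Nat.find_spec hex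
      rw [h, pow_zero] at this
      exact one_ne_zero this
    exact ⟨r, hr ▸ Nat.find_spec hex, Nat.find_min hex (by omega)⟩
  let B := Module.Free.chooseBasis L Ω[L⁄k]
  obtain ⟨i, hi⟩ : ∃ i, IsUnit (B.repr (KaehlerDifferential.D k L x) i) := by
    by_contra h
    push Not at h
    refine D_notMem_of_notMem_sq (k := k) hx hx2 ?_
    rw [← B.linearCombination_repr (KaehlerDifferential.D k L x), Finsupp.linearCombination_apply]
    exact Submodule.sum_mem _ fun i _ => Submodule.smul_mem_smul (h i) trivial
  have h0 : ((r + 1 : ℕ) : L) • x ^ r • KaehlerDifferential.D k L x = 0 := by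
    have h := congrArg (KaehlerDifferential.D k L) hr
    rw [Derivation.leibniz_pow, map_zero, Nat.add_sub_cancel] at h
    rwa [Nat.cast_smul_eq_nsmul]
  have h1 := congrArg (fun w => B.repr w i) h0
  simp only [map_smul, map_zero, Finsupp.smul_apply, Finsupp.coe_zero, Pi.zero_apply, smul_eq_mul] at h1
  have hu : IsUnit (((r + 1 : ℕ) : L)) := by
    rw [← map_natCast (algebraMap k L)]
    exact (Ne.isUnit (Nat.cast_ne_zero.2 r.succ_ne_zero)).map _
  exact hr' ((hi.mul_left_eq_zero).1 ((hu.mul_right_eq_zero).1 h1))

theorem isSmoothAt_iff_free_of_charZero (k A : Type u) [Field k] [CharZero k] [CommRing A]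
    [Algebra k A] [Algebra.FiniteType k A] (q : Ideal A) [q.IsPrime] :
    Algebra.IsSmoothAt k q ↔
      Module.Free (Localization.AtPrime q) (KaehlerDifferential k (Localization.AtPrime q)) := by
  haveI : IsNoetherianRing A := Algebra.FiniteType.isNoetherianRing k A
  haveI : Algebra.FinitePresentation k A := Algebra.FinitePresentation.of_finiteType.mp ‹_›
  haveI : Algebra.EssFiniteType k (Localization.AtPrime q) := Algebra.EssFiniteType.comp k A _
  constructor
  · intro h
    exact Module.free_of_flat_of_isLocalRing
  · intro hfree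
    have hmem : (⟨q, inferInstance⟩ : PrimeSpectrum A) ∈ Module.freeLocus A Ω[A⁄k] := by
      rw [Module.mem_freeLocus]
      have e := IsLocalizedModule.iso q.primeCompl
        (KaehlerDifferential.map k k A (Localization.AtPrime q))
      have e' := e.extendScalarsOfIsLocalization q.primeCompl (Localization.AtPrime q)
      exact hfree.of_equiv' e'.symm
    obtain ⟨_, ⟨_, ⟨f, rfl⟩, rfl⟩, hqf, hf⟩ :=
      PrimeSpectrum.isBasis_basic_opens.exists_subset_of_mem_open hmem Module.isOpen_freeLocus
    rw [Module.basicOpen_subset_freeLocus_iff] at hf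
    let Af := Localization.Away f
    haveI : Algebra.FinitePresentation A Af := IsLocalization.Away.finitePresentation f
    haveI : Algebra.FiniteType k Af := Algebra.FiniteType.trans (S := A) inferInstance inferInstance
    haveI hproj : Module.Projective Af Ω[Af⁄k] := by
      have e := IsLocalizedModule.iso (.powers f) (KaehlerDifferential.map k k A Af)
      exact Module.Projective.of_equiv (e.extendScalarsOfIsLocalization (.powers f) Af)
    haveI : IsNoetherianRing Af := Algebra.FiniteType.isNoetherianRing k Af
    haveI hsm : Algebra.Smooth k Af := by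
      refine (smooth_iff k Af).2 ⟨hproj, fun p _ hp => ?_⟩
      let Lp := Localization.AtPrime p
      haveI : Algebra.EssFiniteType k Lp := Algebra.EssFiniteType.comp k Af Lp
      haveI : Algebra.EssFiniteType k (ResidueField Lp) := Algebra.EssFiniteType.comp k Lp _
      haveI : Algebra.FormallySmooth k (ResidueField Lp) := Algebra.FormallySmooth.of_perfectField
      haveI : Module.Projective Lp Ω[Lp⁄k] := by
        have e := IsLocalizedModule.iso p.primeCompl (KaehlerDifferential.map k k Af Lp)
        exact Module.Projective.of_equiv (e.extendScalarsOfIsLocalization p.primeCompl Lp)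
      haveI : Module.Free Lp Ω[Lp⁄k] := Module.free_of_flat_of_isLocalRing
      haveI : Ring.KrullDimLE 0 Lp := Ring.krullDimLE_zero_iff.2 fun P hP => by
        have h := hp.2 ⟨hP.comap (algebraMap Af Lp), bot_le⟩ fun a ha => by
          by_contra hna
          exact hP.ne_top (Ideal.eq_top_of_isUnit_mem _ ha (IsLocalization.map_units Lp (⟨a, hna⟩ : p.primeCompl)))
        have hle : maximalIdeal Lp ≤ P := by
          rw [← Localization.AtPrime.map_eq_maximalIdeal, Ideal.map_le_iff_le_comap]; exact h
        rw [← le_antisymm hle (le_maximalIdeal hP.ne_top)]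
        infer_instance
      haveI : IsArtinianRing Lp := isArtinianRing_iff_isNoetherianRing_krullDimLE_zero.2 ⟨inferInstance, inferInstance⟩
      haveI : IsReduced Lp :=
        haveI : IsField Lp := IsLocalRing.isField_iff_maximalIdeal_eq.2 (maximalIdeal_eq_bot_of_free_kaehler (k := k))
        letI := this.toField
        inferInstance
      exact (isGeometricallyReduced_minimal_iff k Af p hp).2 Algebra.FormallySmooth.of_perfectField
    exact (Algebra.basicOpen_subset_smoothLocus_iff_smooth (R := k)).2 hsm hqf

end GrothLib.UnrMono
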