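import Groth.Agent.Lib.Seesaw26.FieldFunctions
import Mathlib.FieldTheory.Perfect
import Mathlib.RingTheory.PowerBasis
import Mathlib.RingTheory.Nilpotent.GeometricallyReduced
import Mathlib.RingTheory.Polynomial.Content

/-!
# Derivations kill global functions on proper geometrically reduced schemes over a field
-/

set_option autoImplicit false
set_option backward.isDefEq.respectTransparency false
universe u

noncomputable section

open CategoryTheory CategoryTheory.Limits AlgebraicGeometry Opposite TopologicalSpace TensorProduct Polynomial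

namespace GrothLib.UnrMono

theorem separable_minpoly_of_isReduced {K A L : Type u} [Field K] [CommRing A] [Algebra K A] [Field L]
    [Algebra K L] [PerfectField L] [IsReduced (L ⊗[K] A)] {s : A} (hs : IsIntegral K s) :
    (minpoly K s).Separable := by
  let x : L ⊗[K] A := 1 ⊗ₜ s
  have hx : IsIntegral L x := hs.map (Algebra.TensorProduct.includeRight : A →ₐ[K] L ⊗[K] A) |>.tower_top
  have haev : aeval x ((minpoly K s).map (algebraMap K L)) = 0 := by
    rw [aeval_map_algebraMap]
    show aeval ((Algebra.TensorProduct.includeRight : A →ₐ[K] L ⊗[K] A) s) (minpoly K s) = 0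
    rw [aeval_algHom_apply, minpoly.aeval, map_zero]
  have hdeg : ((minpoly K s).map (algebraMap K L)).natDegree ≤ (minpoly L x).natDegree := by
    rw [natDegree_map]
    by_contra hlt
    rw [not_le] at hlt
    have hli := Module.Flat.linearIndependent_one_tmul (S := L) (linearIndependent_pow (K := K) s)
    have h0 := minpoly.aeval L x
    rw [aeval_eq_sum_range' (n := (minpoly K s).natDegree) hlt, Finset.sum_range] at h0
    have h1 := Fintype.linearIndependent_iff.1 hli (fun i => (minpoly L x).coeff i) (by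
      simpa [x, Algebra.TensorProduct.tmul_pow] using h0) ⟨_, hlt⟩
    exact one_ne_zero ((minpoly.monic hx).symm.trans h1)
  have heq : minpoly L x = (minpoly K s).map (algebraMap K L) :=
    (eq_of_monic_of_dvd_of_natDegree_le (minpoly.monic hx) ((minpoly.monic hs).map _)
      (minpoly.dvd L x haev) hdeg).symm
  have hrad : IsRadical (minpoly L x) := fun n y hy => by
    rw [minpoly.dvd_iff] at hy ⊢
    exact IsReduced.eq_zero _ ⟨n, by rwa [← map_pow]⟩
  have := hrad.squarefree (minpoly.ne_zero hx)
  rw [← PerfectField.separable_iff_squarefree, heq, separable_map] at this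
  exact this

theorem derivation_eq_zero_of_separable {K A M : Type*} [CommRing K] [CommRing A] [Algebra K A]
    [AddCommGroup M] [Module A M] [Module K M] [IsScalarTower K A M] (D : Derivation K A M) {s : A}
    {p : K[X]} (hp : p.Separable) (hs : aeval s p = 0) : D s = 0 := by
  obtain ⟨a, b, hab⟩ := hp
  have hu : aeval s b * aeval s (derivative p) = 1 := by
    have := congrArg (aeval s) hab
    simpa [hs] using this
  have h := D.map_aeval p s
  rw [hs, map_zero] at h
  calc D s = (aeval s b * aeval s (derivative p)) • D s := by rw [hu, one_smul]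
    _ = 0 := by rw [mul_smul, ← h, smul_zero]

/-- Derivations of a proper geometrically reduced scheme over a field kill global functions. -/
theorem der_global_eq_zero {K : Type u} [Field K] {Z : Scheme.{u}} (p : Z ⟶ Spec (CommRingCat.of K))
    [UniversallyClosed p] [QuasiSeparated p] [GeometricallyReduced p]
    (s : Γ(Z, ⊤)) : ∃ P : K[X], P.Separable ∧
      P.eval₂ (p.appTop.hom.comp (Scheme.ΓSpecIso (CommRingCat.of K)).inv.hom) s = 0 := by
  letI := (p.appTop.hom.comp (Scheme.ΓSpecIso (CommRingCat.of K)).inv.hom).toAlgebra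
  let L := AlgebraicClosure K
  let φ : Spec (CommRingCat.of L) ⟶ Spec (CommRingCat.of K) :=
    Spec.map (CommRingCat.ofHom (algebraMap K L))
  let Z' := pullback p φ
  let g : Z' ⟶ Z := pullback.fst p φ
  let q : Z' ⟶ Spec (CommRingCat.of L) := pullback.snd p φ
  have H : IsPullback g q p φ := IsPullback.of_hasPullback p φ
  haveI : IsReduced Z' :=
    pullback_of_geometrically GeometricallyReduced.geometrically_isReduced _ φ
  haveI : CompactSpace Z := QuasiCompact.compactSpace_of_compactSpace p
  haveI : QuasiSeparatedSpace Z := quasiSeparatedSpace_of_quasiSeparated p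
  haveI : Flat φ := by
    rw [HasRingHomProperty.Spec_iff (P := @Flat)]
    exact RingHom.flat_algebraMap_iff.mpr inferInstance
  have hP : IsPushout (p.appLE ⊤ ⊤ le_top) (φ.appLE ⊤ ⊤ le_top) (g.appLE ⊤ ⊤ le_top) (q.appLE ⊤ ⊤ le_top) :=
    (AlgebraicGeometry.isIso_pushoutSection_iff H (US := ⊤) (UT := ⊤) (UX := ⊤) (UY := ⊤) le_top le_top
      (by simp)).1 (isIso_pushoutSection_of_isQuasiSeparated_of_flat_right H _ _ _
        (isAffineOpen_top _) (isAffineOpen_top _) isCompact_univ (IsQuasiSeparated.of_quasiSeparatedSpace _))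
  have hP' : IsPushout (CommRingCat.ofHom (GrothLib.Cube.cst p ⊤)) (CommRingCat.ofHom (algebraMap K L))
      (g.appLE ⊤ ⊤ le_top) (CommRingCat.ofHom (GrothLib.Cube.cst q ⊤)) := by
    refine hP.of_iso (Scheme.ΓSpecIso _) (Iso.refl _) (Scheme.ΓSpecIso _) (Iso.refl _) ?_ ?_ ?_ ?_
    · ext r
      simp [GrothLib.Cube.cst]
    · rw [show φ.appLE ⊤ ⊤ le_top = φ.appTop from Scheme.Hom.appLE_eq_app _]
      exact Scheme.ΓSpecIso_naturality _
    · simp
    · ext r
      simp [GrothLib.Cube.cst]
  have hc : ∀ r : K, algebraMap K Γ(Z, ⊤) r = GrothLib.Cube.cst p ⊤ r := fun r => by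
    simp [GrothLib.Cube.cst, Scheme.Hom.appLE, RingHom.algebraMap_toAlgebra]
  letI : Algebra L Γ(Z', ⊤) := (GrothLib.Cube.cst q ⊤).toAlgebra
  letI : Algebra Γ(Z, ⊤) Γ(Z', ⊤) := (g.appLE ⊤ ⊤ le_top).hom.toAlgebra
  letI : Algebra K Γ(Z', ⊤) := ((GrothLib.Cube.cst q ⊤).comp (algebraMap K L)).toAlgebra
  haveI : IsScalarTower K L Γ(Z', ⊤) := IsScalarTower.of_algebraMap_eq fun _ => rfl
  haveI : IsScalarTower K Γ(Z, ⊤) Γ(Z', ⊤) := IsScalarTower.of_algebraMap_eq fun r =>
    (ConcreteCategory.congr_hom hP'.w r).symm.trans (congrArg (g.appLE ⊤ ⊤ le_top).hom (hc r).symm)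
  haveI hA : Algebra.IsPushout K Γ(Z, ⊤) L Γ(Z', ⊤) := by
    refine CommRingCat.isPushout_iff_isPushout.1 ?_
    rwa [show CommRingCat.ofHom (algebraMap K Γ(Z, ⊤)) = CommRingCat.ofHom (GrothLib.Cube.cst p ⊤) from
      CommRingCat.hom_ext (RingHom.ext hc)]
  haveI hA' : Algebra.IsPushout K L Γ(Z, ⊤) Γ(Z', ⊤) := hA.symm
  haveI : IsReduced (L ⊗[K] Γ(Z, ⊤)) :=
    isReduced_of_injective (Algebra.IsPushout.equiv K L Γ(Z, ⊤) Γ(Z', ⊤))
      (Algebra.IsPushout.equiv K L Γ(Z, ⊤) Γ(Z', ⊤)).injective
  have hint : ((Scheme.ΓSpecIso (CommRingCat.of K)).inv ≫ p.appTop).hom.IsIntegral := by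
    apply RingHom.isIntegral_respectsIso.2 (e := (Scheme.ΓSpecIso _).symm.commRingCatIsoToRingEquiv)
    exact isIntegral_appTop_of_universallyClosed p
  exact ⟨minpoly K s, separable_minpoly_of_isReduced (L := L) (hint s), minpoly.aeval K s⟩

end GrothLib.UnrMono
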