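import Groth.Agent.Lib.UnrMono.EtaleFieldMain
import Mathlib

/-!
# Étale maps to affine space and systems of parameters
-/

universe u

namespace GrothLib.UnrMono

open MvPolynomial

variable (k : Type u) [Field k] (n : ℕ)

/-- The ideal of the first `j` variables. -/
noncomputable def varIdeal (j : ℕ) : Ideal (MvPolynomial (Fin n) k) :=
  Ideal.span (X '' {i : Fin n | (i : ℕ) < j})

/-- Setting the first `j` variables to zero. -/
noncomputable def killVars (j : ℕ) : MvPolynomial (Fin n) k →ₐ[k] MvPolynomial (Fin n) k :=
  aeval fun i : Fin n => if (i : ℕ) < j then 0 else X i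

theorem varIdeal_eq_ker (j : ℕ) : varIdeal k n j = RingHom.ker (killVars k n j) := by
  refine le_antisymm ?_ fun f hf => ?_
  · rw [varIdeal, Ideal.span_le]
    rintro _ ⟨i, hi, rfl⟩
    rw [SetLike.mem_coe, RingHom.mem_ker, killVars, aeval_X, if_pos (show (i : ℕ) < j from hi)]
  · have h : ∀ g : MvPolynomial (Fin n) k, g - killVars k n j g ∈ varIdeal k n j := by
      intro g
      induction g using MvPolynomial.induction_on with
      | C a =>
        rw [killVars, aeval_C, ← MvPolynomial.algebraMap_eq, sub_self]
        exact zero_mem _
      | add p q hp hq =>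
        rw [map_add, add_sub_add_comm]
        exact add_mem hp hq
      | mul_X p i hp =>
        rw [map_mul, killVars, aeval_X]
        split_ifs with hi
        · rw [mul_zero, sub_zero]
          exact Ideal.mul_mem_left _ _ (Ideal.subset_span ⟨i, hi, rfl⟩)
        · rw [← sub_mul]
          exact Ideal.mul_mem_right _ _ hp
    have := h f
    rwa [RingHom.mem_ker.1 hf, sub_zero] at this

instance isPrime_varIdeal (j : ℕ) : (varIdeal k n j).IsPrime := by
  rw [varIdeal_eq_ker]
  exact RingHom.ker_isPrime _

theorem le_height_varIdeal (r : ℕ) (hr : r ≤ n) : (r : ℕ∞) ≤ (varIdeal k n r).height := by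
  let T : PrimeSpectrum (MvPolynomial (Fin n) k) := ⟨varIdeal k n r, inferInstance⟩
  rw [show (varIdeal k n r).height = Order.height T from T.height_eq_orderHeight]
  let l : LTSeries (PrimeSpectrum (MvPolynomial (Fin n) k)) :=
    { length := r
      toFun := fun j => ⟨varIdeal k n j, inferInstance⟩
      step := fun j => by
        show varIdeal k n (j : ℕ) < varIdeal k n ((j : ℕ) + 1)
        refine lt_of_le_not_ge (Ideal.span_mono (Set.image_mono fun i hi => ?_)) fun hle => ?_
        · exact Nat.lt_succ_of_lt hi
        · have hj : (j : ℕ) < n := lt_of_lt_of_le j.2 hr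
          have hm : (X (⟨j, hj⟩ : Fin n) : MvPolynomial (Fin n) k) ∈ varIdeal k n j :=
            hle (Ideal.subset_span ⟨⟨j, hj⟩, Nat.lt_succ_self _, rfl⟩)
          rw [varIdeal_eq_ker, RingHom.mem_ker, killVars, aeval_X, if_neg (lt_irrefl _)] at hm
          exact X_ne_zero _ hm }
  exact Order.length_le_height (p := l) le_rfl

theorem isEtaleAt_iff_parameters (A : Type u) [CommRing A] [Algebra k A] [Algebra.FiniteType k A]
    (r : ℕ) [Algebra (MvPolynomial (Fin n) k) A] [IsScalarTower k (MvPolynomial (Fin n) k) A]
    (p : Ideal A) [p.IsPrime]
    (hn : FlatMor.localDim (PrimeSpectrum A) ⟨p, inferInstance⟩ = (n : WithBot ℕ∞))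
    (hr : ringKrullDim (Localization.AtPrime p) = (r : WithBot ℕ∞))
    (hg : ∀ i : Fin n, (i : ℕ) < r → algebraMap (MvPolynomial (Fin n) k) A (X i) ∈ p) :
    Algebra.IsEtaleAt (MvPolynomial (Fin n) k) p ↔
      Ideal.span ((fun i : Fin n =>
          algebraMap A (Localization.AtPrime p) (algebraMap (MvPolynomial (Fin n) k) A (X i))) ''
            {i : Fin n | (i : ℕ) < r}) = IsLocalRing.maximalIdeal (Localization.AtPrime p) ∧
        Submodule.span p.ResidueField ((fun i : Fin n =>
          KaehlerDifferential.D k p.ResidueField
            (IsLocalRing.residue (Localization.AtPrime p)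
              (algebraMap A (Localization.AtPrime p) (algebraMap (MvPolynomial (Fin n) k) A (X i))))) ''
            {i : Fin n | r ≤ (i : ℕ)}) = ⊤ := by
  let P := MvPolynomial (Fin n) k
  let L := Localization.AtPrime p
  haveI : Algebra.EssFiniteType k L := Algebra.EssFiniteType.comp k A L
  constructor
  · intro he
    haveI : Algebra.FiniteType P A := Algebra.FiniteType.of_restrictScalars_finiteType k P A
    haveI : Algebra.FinitePresentation P A := Algebra.FinitePresentation.of_finiteType.mp ‹_›
    let pP := p.comap (algebraMap P A)
    have hpP : pP.height = r := by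
      obtain ⟨f, hf, hfe⟩ := Algebra.exists_etale_of_isEtaleAt (R := P) p
      let Af := Localization.Away f
      have hdisj : Disjoint (Submonoid.powers f : Set A) p := by
        rwa [Ideal.disjoint_powers_iff_notMem_of_isPrime]
      let p₁ := p.map (algebraMap A Af)
      haveI : p₁.IsPrime :=
        IsLocalization.isPrime_of_isPrime_disjoint (.powers f) _ _ ‹_› hdisj
      have hc : p₁.comap (algebraMap A Af) = p :=
        IsLocalization.comap_map_of_isPrime_disjoint (.powers f) _ ‹_› hdisj
      have hcP : p₁.comap (algebraMap P Af) = pP := by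
        rw [IsScalarTower.algebraMap_eq P A Af, ← Ideal.comap_comap, hc]
      haveI : IsLocalization.AtPrime (Localization.AtPrime p₁) p := by
        have := IsLocalization.isLocalization_isLocalization_atPrime_isLocalization
          (Submonoid.powers f) (Localization.AtPrime p₁) p₁
        simpa [hc] using this
      rw [← hcP, height_comap_eq]
      have h1 := ringKrullDim_eq_of_ringEquiv
        (IsLocalization.algEquiv p.primeCompl (Localization.AtPrime p₁) L).toRingEquiv
      rw [IsLocalization.AtPrime.ringKrullDim_eq_height p₁, hr] at h1
      exact WithBot.coe_eq_coe.1 h1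
    have hrn : r ≤ n := by
      have := (ringKrullDim_le_localDim p).trans hn.le
      rw [hr] at this
      exact_mod_cast this
    have hJ : varIdeal k n r = pP := by
      have hle : varIdeal k n r ≤ pP := Ideal.span_le.2 (by
        rintro _ ⟨i, hi, rfl⟩
        exact hg i hi)
      refine (eq_or_lt_of_le hle).resolve_right fun hlt => ?_
      · have h1 := Ideal.height_strict_mono_of_isPrime_of_isPrime hlt
        rw [hpP] at h1
        exact h1.not_ge (le_height_varIdeal k n r hrn)
    haveI : p.LiesOver pP := ⟨rfl⟩
    letI := Localization.AtPrime.algebraOfLiesOver pP p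
    haveI : Algebra.FormallyEtale P L := he
    haveI : Algebra.FormallyUnramified (Localization.AtPrime pP) L :=
      Algebra.FormallyUnramified.of_restrictScalars P _ _
    haveI : Algebra.EssFiniteType P L := Algebra.EssFiniteType.comp P A L
    haveI : Algebra.EssFiniteType (Localization.AtPrime pP) L :=
      Algebra.EssFiniteType.of_comp P _ _
    refine ⟨?_, ?_⟩
    · have hmm := Algebra.FormallyUnramified.map_maximalIdeal
        (R := Localization.AtPrime pP) (S := L)
      rw [← Localization.AtPrime.map_eq_maximalIdeal, Ideal.map_map,
        ← IsScalarTower.algebraMap_eq, ← hJ, varIdeal, Ideal.map_span, ← Set.image_comp] at hmm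
      refine Eq.trans (congrArg Ideal.span (Set.image_congr fun i _ => ?_)) hmm
      exact (IsScalarTower.algebraMap_apply P A L (X i)).symm
    · have hspan := (isEtaleAt_iff_span k A n p hn).1 he
      refine eq_top_iff.2 ?_
      rintro w -
      obtain ⟨v, rfl⟩ := KaehlerDifferential.map_surjective_of_surjective k k L p.ResidueField
        IsLocalRing.residue_surjective w
      have hv := hspan.ge (Submodule.mem_top (x := v))
      clear hspan
      induction hv using Submodule.span_induction with
      | mem y hy =>
        obtain ⟨i, rfl⟩ := hy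
        rw [KaehlerDifferential.map_D]
        rcases lt_or_ge (i : ℕ) r with hi | hi
        · have : algebraMap L p.ResidueField
              (algebraMap A L (algebraMap P A (X i))) = 0 :=
            (IsLocalRing.residue_eq_zero_iff _).2
              ((IsLocalization.AtPrime.to_map_mem_maximal_iff L p _).2 (hg i hi))
          rw [this, map_zero]
          exact zero_mem _
        · exact Submodule.subset_span ⟨i, hi, rfl⟩
      | zero => rw [map_zero]; exact zero_mem _
      | add a b _ _ ha hb => rw [map_add]; exact add_mem ha hb
      | smul a y _ hy =>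
        rw [map_smul, ← algebraMap_smul p.ResidueField a]
        exact Submodule.smul_mem _ _ hy
  · rintro ⟨hm, hres⟩
    exact (isEtaleAt_iff_span k A n p hn).2
      (span_eq_top_of_parameters k n (fun i =>
        algebraMap A L (algebraMap P A (X i))) r hm hres)

end GrothLib.UnrMono
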