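import Groth.Agent.Lib.EssEtLoc.Standard
import Groth.Agent.Lib.EtBasicB.LocalRings
import Mathlib.RingTheory.KrullDimension.NonZeroDivisors
import Mathlib.RingTheory.KrullDimension.Basic

/-!
# Unramified local algebras of full dimension over a normal local domain are flat
-/

universe u

namespace GrothLib.UnrMono

open IsLocalRing

theorem flat_of_formallyUnramified_of_normal (R S : Type u) [CommRing R] [CommRing S]
    [IsLocalRing R] [IsLocalRing S] [IsNoetherianRing R] [IsDomain R] [IsIntegrallyClosed R]
    [Algebra R S] [IsLocalHom (algebraMap R S)] [Algebra.EssFiniteType R S]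
    [Algebra.FormallyUnramified R S] (hdim : ringKrullDim R ≤ ringKrullDim S) :
    Module.Flat R S := by
  obtain ⟨P, q, _, θ, hθ, hloc⟩ := GrothLib.EssEtLoc.exists_standardEtale_surjection (A := R) (D := S)
  haveI : IsLocalHom (algebraMap R (Localization.AtPrime q)) := ⟨fun a ha => by
    refine isUnit_of_map_unit (algebraMap R S) a ?_
    rw [← θ.commutes]
    exact ha.map θ⟩
  haveI : Algebra.FormallyUnramified R (Localization.AtPrime q) :=
    Algebra.FormallyUnramified.comp R P.Ring _
  haveI : Algebra.EssFiniteType R (Localization.AtPrime q) := by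
    haveI : Algebra.EssFiniteType P.Ring (Localization.AtPrime q) := .of_isLocalization _ q.primeCompl
    exact .comp R P.Ring _
  haveI : Module.Flat P.Ring (Localization.AtPrime q) := IsLocalization.flat _ q.primeCompl
  haveI : Module.Flat R (Localization.AtPrime q) := Module.Flat.trans R P.Ring _
  haveI := GrothLib.EtBasicB.isNoetherianRing_of_essFiniteType R (Localization.AtPrime q)
  obtain ⟨hdom, -⟩ := GrothLib.EtBasicB.normal_of_normal R (Localization.AtPrime q)
  have hd := GrothLib.EtBasicB.ringKrullDim_eq R (Localization.AtPrime q)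
  have hinj : Function.Injective θ := by
    refine (injective_iff_map_eq_zero _).2 fun a ha => ?_
    by_contra h0
    have h := ringKrullDim_succ_le_of_surjective θ.toRingHom hθ (mem_nonZeroDivisors_of_ne_zero h0) ha
    rw [hd] at h
    obtain ⟨n, hn⟩ : ∃ n : ℕ, ringKrullDim R = (n : WithBot ℕ∞) := by
      obtain ⟨v, hv⟩ := WithBot.ne_bot_iff_exists.1 (ringKrullDim_ne_bot (R := R))
      obtain ⟨n, hn⟩ := WithTop.ne_top_iff_exists.1
        (show v ≠ ⊤ from fun h' => ringKrullDim_ne_top (R := R) (by rw [← hv, h']; rfl))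
      exact ⟨n, by rw [← hv, ← hn]; rfl⟩
    have h1 := (add_le_add hdim le_rfl).trans h
    rw [hn, ← Nat.cast_one, ← Nat.cast_add] at h1
    have h2 : n + 1 ≤ n := by exact_mod_cast h1
    omega
  exact Module.Flat.of_linearEquiv (AlgEquiv.ofBijective θ ⟨hinj, hθ⟩).toLinearEquiv.symm

end GrothLib.UnrMono
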