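import Groth.Agent.Lib.UnrMono.AdaptedGerms
import Groth.Agent.Lib.UnrMono.EtaleFieldMain
import Groth.Agent.Lib.AffDom.Formula
import Groth.Agent.Lib.Serre.Smooth
import Groth.Agent.Lib.CMFree.Regular
import Mathlib

/-!
# Smoothness over a field: projective differentials and separable generic points
-/

universe u

namespace GrothLib.UnrMono

open TensorProduct MvPolynomial

variable (k A : Type u) [Field k] [CommRing A] [Algebra k A]

/-- A reduced local ring at a minimal prime is its residue field. -/
noncomputable def minimalPrimeEquiv (q : Ideal A) [q.IsPrime] (hq : q ∈ minimalPrimes A)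
    [IsReduced (Localization.AtPrime q)] : Localization.AtPrime q ≃ₐ[A] q.ResidueField :=
  AlgEquiv.ofBijective (IsScalarTower.toAlgHom A (Localization.AtPrime q) q.ResidueField)
    ⟨(injective_iff_map_eq_zero _).2 fun x hx => by
      have hx' : x ∈ IsLocalRing.maximalIdeal (Localization.AtPrime q) :=
        (IsLocalRing.residue_eq_zero_iff x).1 hx
      refine IsReduced.eq_zero _ (mem_nilradical.1 ?_)
      rw [nilradical_eq_sInf, Ideal.mem_sInf]
      intro P (hP : P.IsPrime)
      have hle : P.comap (algebraMap A (Localization.AtPrime q)) ≤ q := by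
        intro a ha
        by_contra h
        exact hP.ne_top (Ideal.eq_top_of_isUnit_mem _ ha
          (IsLocalization.map_units _ (⟨a, h⟩ : q.primeCompl)))
      have he : q ≤ P.comap (algebraMap A (Localization.AtPrime q)) :=
        hq.2 ⟨hP.comap _, bot_le⟩ hle
      have h1 : IsLocalRing.maximalIdeal (Localization.AtPrime q) ≤ P := by
        rw [← Localization.AtPrime.map_eq_maximalIdeal, Ideal.map_le_iff_le_comap]
        exact he
      exact h1 hx', IsLocalRing.residue_surjective⟩

theorem formallyEtale_residueField_minimal (q : Ideal A) [q.IsPrime] (hq : q ∈ minimalPrimes A)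
    [IsReduced (Localization.AtPrime q)] : Algebra.FormallyEtale A q.ResidueField := by
  haveI : Algebra.FormallyEtale A (Localization.AtPrime q) :=
    Algebra.FormallyEtale.of_isLocalization q.primeCompl
  exact Algebra.FormallyEtale.of_equiv (minimalPrimeEquiv A q hq)

theorem isGeometricallyReduced_minimal_iff [Algebra.FiniteType k A] (q : Ideal A) [q.IsPrime]
    (hq : q ∈ minimalPrimes A) [IsReduced (Localization.AtPrime q)] :
    Algebra.IsGeometricallyReduced k (Localization.AtPrime q) ↔
      Algebra.FormallySmooth k q.ResidueField := by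
  haveI := essFiniteType_residueField k A q
  rw [GrothLib.SepField.formallySmooth_iff_isGeometricallyReduced (k := k) (K := q.ResidueField)]
  let e := (minimalPrimeEquiv A q hq).restrictScalars k
  exact ⟨fun _ => .of_injective e.symm.toAlgHom e.symm.injective,
    fun _ => .of_injective e.toAlgHom e.injective⟩

/-- The local dimension dominates the dimension of every component through the point. -/
theorem ringKrullDim_quotient_le_localDim [Algebra.FiniteType k A] (q p : Ideal A) [q.IsPrime]
    [p.IsPrime] (h : q ≤ p) :
    ringKrullDim (A ⧸ q) ≤ FlatMor.localDim (PrimeSpectrum A) ⟨p, ‹_›⟩ := by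
  rw [GrothLib.LocalDimAlg.localDim_eq k p]
  let π := Ideal.Quotient.mk q
  haveI : (p.map π).IsPrime := Ideal.isPrime_map_quotientMk_of_isPrime h
  rw [← GrothLib.AffDom.height_add_ringKrullDim_quotient (k := k) (A ⧸ q) (p.map π),
    ringKrullDim_eq_of_ringEquiv (DoubleQuot.quotQuotEquivQuotOfLE h)]
  refine add_le_add (WithBot.coe_le_coe.2 ?_) le_rfl
  let P : PrimeSpectrum (A ⧸ q) := ⟨p.map π, ‹_›⟩
  let Q : PrimeSpectrum A := ⟨p, ‹_›⟩
  have hs : StrictMono (PrimeSpectrum.comap π) :=
    RingHom.strictMono_comap_of_surjective Ideal.Quotient.mk_surjective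
  have hQ : PrimeSpectrum.comap π P = Q := PrimeSpectrum.ext (by
    show (p.map π).comap π = p
    rw [Ideal.comap_map_of_surjective _ Ideal.Quotient.mk_surjective, ← RingHom.ker_eq_comap_bot,
      Ideal.mk_ker, sup_eq_left.2 h])
  rw [show (p.map π).height = Order.height P from P.height_eq_orderHeight,
    show p.height = Order.height Q from Q.height_eq_orderHeight, ← hQ]
  exact Order.height_le_height_apply_of_strictMono _ hs P

theorem smooth_iff [Algebra.FiniteType k A] :
    Algebra.Smooth k A ↔
      Module.Projective A (KaehlerDifferential k A) ∧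
        ∀ (p : Ideal A) [p.IsPrime], p ∈ minimalPrimes A →
          Algebra.IsGeometricallyReduced k (Localization.AtPrime p) := by
  haveI : IsNoetherianRing A := Algebra.FiniteType.isNoetherianRing k A
  haveI : Algebra.FinitePresentation k A := Algebra.FinitePresentation.of_finiteType.mp ‹_›
  constructor
  · intro hs
    refine ⟨inferInstance, fun q _ hq => ?_⟩
    haveI : Algebra.IsSmoothAt k q := Algebra.FormallySmooth.comp k A (Localization.AtPrime q)
    haveI := GrothLib.Serre.isRegularLocalRing_of_isSmoothAt (k := k) q
    haveI := GrothLib.CMFree.isDomain_of_isRegularLocalRing (Localization.AtPrime q)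
    exact (isGeometricallyReduced_minimal_iff k A q hq).2
      (Algebra.FormallySmooth.of_equiv ((minimalPrimeEquiv A q hq).restrictScalars k))
  · rintro ⟨hproj, hred⟩
    refine ⟨Algebra.smoothLocus_eq_univ_iff.1 (Set.eq_univ_of_forall fun x => ?_), ‹_›⟩
    let p := x.asIdeal
    let K := p.ResidueField
    haveI : Module.Finite A Ω[A⁄k] := inferInstance
    -- generators of the differentials at the point
    obtain ⟨b, hbs, hspan, hli⟩ := exists_linearIndependent K
      (Set.range fun a : A => (1 : K) ⊗ₜ[A] KaehlerDifferential.D k A a)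
    have htop : Submodule.span K (Set.range fun a : A => (1 : K) ⊗ₜ[A] KaehlerDifferential.D k A a) =
        ⊤ := by
      have := (KaehlerDifferential.span_range_derivation k A)
      rw [eq_top_iff, ← Submodule.baseChange_top (A := K) (M := Ω[A⁄k]), ← this,
        Submodule.baseChange_span, ← Set.range_comp]
      exact le_rfl
    rw [htop] at hspan
    let B : Module.Basis b K (K ⊗[A] Ω[A⁄k]) :=
      Module.Basis.mk hli (by rw [Subtype.range_coe, hspan])
    let n := Module.rankAtStalk (R := A) Ω[A⁄k] x
    have hn : Module.finrank K (K ⊗[A] Ω[A⁄k]) = n :=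
      (Module.rankAtStalk_eq x).symm
    haveI : Finite b := Module.Finite.finite_basis B
    haveI := Fintype.ofFinite b
    let e : Fin n ≃ b :=
      (finCongr (hn.symm.trans (Module.finrank_eq_card_basis B))).trans (Fintype.equivFin b).symm
    choose g hg using fun i => hbs (e i).2
    letI : Algebra (MvPolynomial (Fin n) k) A := (aeval g).toAlgebra
    haveI : IsScalarTower k (MvPolynomial (Fin n) k) A :=
      IsScalarTower.of_algebraMap_eq fun c => ((aeval g).commutes c).symm
    have hX : ∀ i, algebraMap (MvPolynomial (Fin n) k) A (X i) = g i := fun i => aeval_X g i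
    let L := Localization.AtPrime p
    haveI : Algebra.FormallyEtale A L := Algebra.FormallyEtale.of_isLocalization p.primeCompl
    have hL : Submodule.span L (Set.range fun i => (1 : L) ⊗ₜ[A] KaehlerDifferential.D k A (g i)) =
        ⊤ := by
      refine IsLocalRing.span_eq_top_of_tmul_eq_basis _
        ((B.reindex e.symm).map
          (AlgebraTensorModule.cancelBaseChange A L K K Ω[A⁄k]).symm) fun i => ?_
      rw [Module.Basis.map_apply, Module.Basis.reindex_apply, Equiv.symm_symm]
      show _ = (AlgebraTensorModule.cancelBaseChange A L K K Ω[A⁄k]).symm (B (e i))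
      rw [Module.Basis.mk_apply, ← hg, AlgebraTensorModule.cancelBaseChange_symm_tmul]
    have hspanL : Submodule.span L (Set.range fun i : Fin n => KaehlerDifferential.D k L
        (algebraMap A L (algebraMap (MvPolynomial (Fin n) k) A (X i)))) = ⊤ := by
      let φ := KaehlerDifferential.tensorKaehlerEquivOfFormallyEtale k A L
      rw [← Submodule.map_eq_top_iff (e := φ), Submodule.map_span, ← Set.range_comp] at hL
      rw [← hL]
      refine congrArg _ (congrArg Set.range (funext fun i => ?_))
      rw [Function.comp_apply, hX]
      symm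
      show KaehlerDifferential.mapBaseChange k A L ((1 : L) ⊗ₜ[A] KaehlerDifferential.D k A (g i)) = _
      rw [KaehlerDifferential.mapBaseChange_tmul, one_smul, KaehlerDifferential.map_D]
    -- the rank is the dimension of the components through the point
    obtain ⟨q, hq, hqp⟩ := Ideal.exists_minimalPrimes_le (show (⊥ : Ideal A) ≤ p from bot_le)
    haveI : q.IsPrime := hq.isPrime
    haveI := hred q hq
    haveI : IsReduced (Localization.AtPrime q) := Algebra.isReduced_of_isGeometricallyReduced k
    haveI := (isGeometricallyReduced_minimal_iff k A q hq).1 inferInstance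
    haveI := essFiniteType_residueField k A q
    haveI := formallyEtale_residueField_minimal A q hq
    have h1 := finrank_kaehler_eq_trdeg k q.ResidueField
    rw [← (KaehlerDifferential.tensorKaehlerEquivOfFormallyEtale k A q.ResidueField).finrank_eq,
      ← Module.rankAtStalk_eq (⟨q, ‹_›⟩ : PrimeSpectrum A),
      Module.rankAtStalk_eq_of_le_of_finite_of_flat (Ω[A⁄k])
        (p := (⟨q, ‹_›⟩ : PrimeSpectrum A)) (q := x) hqp] at h1
    obtain ⟨d, hd, hd'⟩ := GrothLib.Dim.exists_nat_trdeg_eq_and_ringKrullDim_eq k (A ⧸ q)
    haveI : Algebra.IsAlgebraic (A ⧸ q) q.ResidueField :=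
      IsLocalization.isAlgebraic _ (nonZeroDivisors (A ⧸ q))
    have h2 := trdeg_add_eq k (A ⧸ q) (A := q.ResidueField)
    rw [hd, trdeg_eq_zero (R := A ⧸ q) (A := q.ResidueField), add_zero, ← h1] at h2
    have hdn : d = n := by exact_mod_cast h2
    haveI := isUnramifiedAt_of_span k A n p hspanL
    haveI : Algebra.IsEtaleAt (MvPolynomial (Fin n) k) p :=
      isEtaleAt_of_isUnramifiedAt_of_dim k A n p
        (by rw [← hdn, ← hd']; exact ringKrullDim_quotient_le_localDim k A q p hqp)
    haveI : Algebra.FormallyEtale (MvPolynomial (Fin n) k) L := ‹Algebra.IsEtaleAt _ p›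
    exact Algebra.FormallySmooth.comp k (MvPolynomial (Fin n) k) L

end GrothLib.UnrMono
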